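/-
A Sylow `p`-subgroup of the alternating group of degree `n` is abelian exactly when `n < p²`
(for `n ≥ 6`).
-/
import Mathlib

set_option autoImplicit false

namespace CfsgLib.AltSylow

open Equiv

variable {p n : ℕ}

/-- Translations of the rows of a grid. -/
def rowHom (m p : ℕ) : Multiplicative (Fin m → ZMod p) →* Perm (Fin m × ZMod p) where
  toFun f :=
    { toFun := fun x => (x.1, x.2 + f.toAdd x.1)
      invFun := fun x => (x.1, x.2 - f.toAdd x.1)
      left_inv := fun x => by simp
      right_inv := fun x => by simp }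
  map_one' := Equiv.ext fun x => by simp
  map_mul' f g := Equiv.ext fun x => by
    refine Prod.ext rfl ?_
    show x.2 + (f.toAdd x.1 + g.toAdd x.1) = x.2 + g.toAdd x.1 + f.toAdd x.1
    ring

theorem rowHom_injective (m p : ℕ) : Function.Injective (rowHom m p) := fun f g h =>
  Multiplicative.toAdd.injective (funext fun i => by
    simpa [rowHom] using congrArg (fun σ : Perm (Fin m × ZMod p) => (σ (i, 0)).2) h)

theorem exists_abelian_sylow [Fact p.Prime] (h : n < p ^ 2) :
    ∃ U : Sylow p (Perm (Fin n)), ∀ a ∈ (U : Subgroup (Perm (Fin n))),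
      ∀ b ∈ (U : Subgroup (Perm (Fin n))), a * b = b * a := by
  have hp := Fact.out (p := p.Prime)
  have : NeZero p := ⟨hp.ne_zero⟩
  set m := n / p with hm
  have hmp : m < p := (Nat.div_lt_iff_lt_mul hp.pos).2 (by rwa [← sq])
  obtain ⟨ι⟩ : Nonempty (Fin m × ZMod p ↪ Fin n) := by
    refine Function.Embedding.nonempty_of_card_le ?_
    rw [Fintype.card_prod, Fintype.card_fin, ZMod.card, Fintype.card_fin]
    exact Nat.div_mul_le_self n p
  let f := (Perm.viaEmbeddingHom ι).comp (rowHom m p)
  have hf : Function.Injective f :=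
    (Perm.viaEmbeddingHom_injective ι).comp (rowHom_injective m p)
  have hcard : Nat.card f.range = p ^ (Nat.card (Perm (Fin n))).factorization p := by
    rw [Nat.card_congr (MonoidHom.ofInjective hf).toEquiv.symm, Nat.card_perm, Nat.card_fin,
      Nat.factorization_def _ hp]
    show Nat.card (Fin m → ZMod p) = _
    rw [Nat.card_fun, Nat.card_zmod, Nat.card_fin]
    congr 1
    conv_rhs => rw [← Nat.div_add_mod n p]
    rw [padicValNat_factorial_mul_add (p := p) _ (Nat.mod_lt n hp.pos),
      padicValNat_factorial_mul (p := p), padicValNat.eq_zero_of_not_dvd, zero_add]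
    rw [hp.dvd_factorial, not_le]
    exact hmp
  refine ⟨Sylow.ofCard f.range hcard, ?_⟩
  rw [Sylow.coe_ofCard]
  rintro _ ⟨a, rfl⟩ _ ⟨b, rfl⟩
  rw [← map_mul, ← map_mul, mul_comm a b]

/-- Below degree `p²` all `p`-subgroups of the symmetric group are abelian. -/
theorem commute_of_lt_sq [Fact p.Prime] (h : n < p ^ 2) {H : Subgroup (Perm (Fin n))}
    (hH : IsPGroup p H) {a b : Perm (Fin n)} (ha : a ∈ H) (hb : b ∈ H) : a * b = b * a := by
  obtain ⟨U, hU⟩ := exists_abelian_sylow (p := p) h
  obtain ⟨V, hV⟩ := hH.exists_le_sylow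
  obtain ⟨g, hg⟩ := MulAction.exists_smul_eq (Perm (Fin n)) V U
  have key : ∀ x ∈ H, g * x * g⁻¹ ∈ (U : Subgroup (Perm (Fin n))) := fun x hx => by
    rw [← hg, Sylow.coe_subgroup_smul]
    exact ⟨x, hV hx, rfl⟩
  have := hU _ (key a ha) _ (key b hb)
  apply (MulAut.conj g).injective
  simp only [map_mul]
  exact this

theorem sign_eq_one_of_odd_pow {α : Type*} [Fintype α] [DecidableEq α] {σ : Perm α} {e : ℕ}
    (he : Odd e) (h : σ ^ e = 1) : Perm.sign σ = 1 := by
  have h1 := congrArg Perm.sign h
  rw [map_pow, map_one] at h1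
  rcases Int.units_eq_one_or (Perm.sign σ) with h2 | h2
  · exact h2
  · rw [h2, he.neg_one_pow] at h1
    exact absurd h1 (by decide)

/-- A pair of elements of an alternating group generating a nonabelian `p`-subgroup. -/
theorem exists_noncommuting [Fact p.Prime] (hn : 6 ≤ n) (h : p ^ 2 ≤ n) :
    ∃ a b : alternatingGroup (Fin n), a * b ≠ b * a ∧
      ∃ H : Subgroup (alternatingGroup (Fin n)), IsPGroup p H ∧ a ∈ H ∧ b ∈ H := by
  have hp := Fact.out (p := p.Prime)
  -- it is enough to work in a smaller symmetric group with even generators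
  suffices hsmall : ∃ (α : Type) (_ : Fintype α) (_ : DecidableEq α) (_ : α ↪ Fin n) (t u : Perm α),
      Perm.sign t = 1 ∧ Perm.sign u = 1 ∧ t * u ≠ u * t ∧
        (∀ i : ℤ, ∃ j : ℤ, u * t ^ i = t ^ j * u) ∧
        (∃ e, t ^ p ^ e = 1) ∧ (∃ e, u ^ p ^ e = 1) by
    obtain ⟨α, _, _, ι, t, u, ht, hu, hne, hnorm, ⟨et, het⟩, ⟨eu, heu⟩⟩ := hsmall
    let f := Perm.viaEmbeddingHom ι
    have hsign : ∀ σ : Perm α, Perm.sign σ = 1 → f σ ∈ alternatingGroup (Fin n) := fun σ hσ => by
      rw [Perm.mem_alternatingGroup, Perm.viaEmbeddingHom_apply, Perm.viaEmbedding]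
      convert hσ using 1
      convert Perm.sign_extendDomain σ (Equiv.ofInjective ι.1 ι.2) using 4
    set a : alternatingGroup (Fin n) := ⟨f t, hsign t ht⟩
    set b : alternatingGroup (Fin n) := ⟨f u, hsign u hu⟩
    have hN : b ∈ Subgroup.normalizer ((Subgroup.zpowers a : Subgroup _) : Set _) := by
      have hsub : ∀ x ∈ Subgroup.zpowers a, b * x * b⁻¹ ∈ Subgroup.zpowers a := by
        rintro _ ⟨i, rfl⟩
        obtain ⟨j, hj⟩ := hnorm i
        refine ⟨j, Subtype.ext ?_⟩
        simp only [a, b, Subgroup.coe_mul, Subgroup.coe_inv, SubgroupClass.coe_zpow]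
        rw [← map_zpow, ← map_zpow, ← map_mul, hj, map_mul, mul_inv_cancel_right]
      rw [Subgroup.mem_normalizer_iff]
      refine fun x => ⟨hsub x, fun hx => ?_⟩
      obtain ⟨y, hy⟩ : ∃ y : Subgroup.zpowers a, b * (y : alternatingGroup (Fin n)) * b⁻¹ = b * x * b⁻¹ := by
        let c : Subgroup.zpowers a → Subgroup.zpowers a := fun y => ⟨_, hsub y y.2⟩
        have hc : Function.Injective c := fun y z hyz =>
          Subtype.ext (mul_left_cancel (mul_right_cancel (congrArg Subtype.val hyz)))
        obtain ⟨y, hy⟩ := (Finite.injective_iff_surjective.1 hc) ⟨_, hx⟩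
        exact ⟨y, congrArg Subtype.val hy⟩
      exact (mul_left_cancel (mul_right_cancel hy)) ▸ y.2
    have hpa : ∀ (x : alternatingGroup (Fin n)) (e : ℕ), x ^ p ^ e = 1 →
        IsPGroup p (Subgroup.zpowers x) := fun x e he => by
      rintro ⟨_, i, rfl⟩
      refine ⟨e, Subtype.ext ?_⟩
      show (x ^ i) ^ p ^ e = 1
      rw [← zpow_natCast, ← zpow_mul, mul_comm, zpow_mul, zpow_natCast, he, one_zpow]
    refine ⟨a, b, fun hab => hne (Perm.viaEmbeddingHom_injective ι ?_), _,
      IsPGroup.to_sup_of_normal_right' (hpa b eu (Subtype.ext ?_)) (hpa a et (Subtype.ext ?_))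
        ((Subgroup.zpowers_le).2 hN),
      Subgroup.mem_sup_right (Subgroup.mem_zpowers a), Subgroup.mem_sup_left (Subgroup.mem_zpowers b)⟩
    · simpa [a, b, map_mul] using congrArg Subtype.val hab
    · show f u ^ p ^ eu = 1
      rw [← map_pow, heu, map_one]
    · show f t ^ p ^ et = 1
      rw [← map_pow, het, map_one]
  rcases hp.eq_two_or_odd' with rfl | hodd
  · let t : Perm (Fin 6) := swap 0 1 * swap 1 2 * swap 2 3 * swap 4 5
    let u : Perm (Fin 6) := swap 1 3 * swap 4 5
    refine ⟨Fin 6, inferInstance, inferInstance, Fin.castLEEmb hn, t, u, by decide +kernel,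
      by decide +kernel, by decide +kernel, fun i => ⟨-i, ?_⟩, ⟨2, by decide +kernel⟩,
      ⟨1, by decide +kernel⟩⟩
    have h1 : u * t * u⁻¹ = t⁻¹ := by decide +kernel
    rw [zpow_neg, ← inv_zpow, ← h1, conj_zpow]
    group
  · have : NeZero (p ^ 2) := ⟨pow_ne_zero _ hp.ne_zero⟩
    obtain ⟨ι⟩ : Nonempty (ZMod (p ^ 2) ↪ Fin n) := Function.Embedding.nonempty_of_card_le (by
      rw [ZMod.card, Fintype.card_fin]; exact h)
    let c : ZMod (p ^ 2) := (p : ZMod (p ^ 2))
    have hc2 : c * c = 0 := by
      show (p : ZMod (p ^ 2)) * p = 0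
      rw [← Nat.cast_mul, ← sq, ZMod.natCast_self]
    let t : Perm (ZMod (p ^ 2)) := Equiv.addRight 1
    let u : Perm (ZMod (p ^ 2)) :=
      { toFun := fun x => (1 + c) * x
        invFun := fun x => (1 - c) * x
        left_inv := fun x => by
          show (1 - c) * ((1 + c) * x) = x
          linear_combination -x * hc2
        right_inv := fun x => by
          show (1 + c) * ((1 - c) * x) = x
          linear_combination -x * hc2 }
    have hcne : c ≠ 0 := by
      show (p : ZMod (p ^ 2)) ≠ 0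
      rw [Ne, ZMod.natCast_eq_zero_iff]
      intro hd
      have := Nat.le_of_dvd hp.pos hd
      nlinarith [hp.two_le]
    have htz : ∀ (i : ℤ) (x : ZMod (p ^ 2)), (t ^ i) x = x + i := by
      intro i
      induction i with
      | zero => intro x; simp
      | succ i ih =>
        intro x
        rw [zpow_add_one, Perm.mul_apply, ih]
        show x + 1 + ((i : ℤ) : ZMod (p ^ 2)) = _
        push_cast
        ring
      | pred i ih =>
        intro x
        rw [zpow_sub_one, Perm.mul_apply, ih]
        have : (t⁻¹ : Perm (ZMod (p ^ 2))) x = x - 1 := by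
          rw [Perm.inv_eq_iff_eq]
          show x = x - 1 + 1
          ring
        rw [this]
        push_cast
        ring
    have hu : ∀ (e : ℕ) (x : ZMod (p ^ 2)), (u ^ e) x = (1 + e * c) * x := by
      intro e
      induction e with
      | zero => intro x; simp
      | succ e ih =>
        intro x
        rw [pow_succ' u e, Perm.mul_apply, ih]
        show (1 + c) * ((1 + e * c) * x) = (1 + (e + 1 : ℕ) * c) * x
        push_cast
        linear_combination (e : ZMod (p ^ 2)) * x * hc2
    have htp : t ^ p ^ 2 = 1 := Equiv.ext fun x => by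
      rw [← zpow_natCast, htz]
      show x + (((p ^ 2 : ℕ) : ℤ) : ZMod (p ^ 2)) = x
      rw [Int.cast_natCast, ZMod.natCast_self, add_zero]
    have hup : u ^ p = 1 := Equiv.ext fun x => by
      rw [hu, show (p : ZMod (p ^ 2)) * c = 0 from hc2]
      simp
    refine ⟨ZMod (p ^ 2), inferInstance, inferInstance, ι, t, u, ?_, ?_, ?_, fun i => ?_,
      ⟨2, htp⟩, ⟨1, by rw [pow_one]; exact hup⟩⟩
    · exact sign_eq_one_of_odd_pow (hodd.pow (n := 2)) htp
    · exact sign_eq_one_of_odd_pow hodd hup
    · intro hne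
      have := congrArg (fun σ : Perm (ZMod (p ^ 2)) => σ 0) hne
      simp only [Perm.mul_apply] at this
      change (1 + c) * 0 + 1 = (1 + c) * (0 + 1) at this
      exact hcne (by linear_combination -this)
    · refine ⟨((1 + p : ℕ) : ℤ) * i, Equiv.ext fun x => ?_⟩
      rw [Perm.mul_apply, Perm.mul_apply, htz, htz]
      show (1 + c) * (x + i) = (1 + c) * x + _
      push_cast
      ring

end CfsgLib.AltSylow

namespace CfsgLib.AltSylow

open Equiv

/-- A Sylow `p`-subgroup of `A_n`, `n ≥ 6`, is abelian exactly when `n < p²`. -/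
theorem sylow_commutative_iff {n p : ℕ} [Fact p.Prime] (hn : 6 ≤ n)
    (S : Sylow p (alternatingGroup (Fin n))) : IsMulCommutative S ↔ n < p ^ 2 := by
  constructor
  · intro hS
    by_contra hle
    obtain ⟨a, b, hne, H, hH, ha, hb⟩ := exists_noncommuting (p := p) hn (Nat.le_of_not_lt hle)
    obtain ⟨T, hT⟩ := hH.exists_le_sylow
    obtain ⟨g, hg⟩ := MulAction.exists_smul_eq (alternatingGroup (Fin n)) T S
    have key : ∀ x ∈ H, g * x * g⁻¹ ∈ (S : Subgroup (alternatingGroup (Fin n))) := fun x hx => by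
      rw [← hg, Sylow.coe_subgroup_smul]
      exact ⟨x, hT hx, rfl⟩
    refine hne ((MulAut.conj g).injective ?_)
    simp only [map_mul, MulAut.conj_apply]
    exact congrArg Subtype.val (hS.is_comm.comm
      (⟨_, key a ha⟩ : (S : Subgroup (alternatingGroup (Fin n)))) ⟨_, key b hb⟩)
  · intro hlt
    refine ⟨⟨fun a b => Subtype.ext (Subtype.ext ?_)⟩⟩
    exact commute_of_lt_sq hlt (S.isPGroup'.map (alternatingGroup (Fin n)).subtype)
      ⟨_, a.2, rfl⟩ ⟨_, b.2, rfl⟩

end CfsgLib.AltSylow
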