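import Mathlib

/-!
# Sylow 2-subgroups of symmetric and alternating groups are self-normalizing

A Sylow 2-subgroup `P` of `Perm α` centralizes an involution `z` with at most one fixed point and
contains all permutations fixing each `z`-orbit.  Induction on the number of points, through the
action on the 2-cycles of `z`, gives `N(P) = P`, and also `N(P ⊓ Alt) = P` from six points on.
-/

set_option autoImplicit false

namespace CfsgLib.AltSylow

open Equiv Equiv.Perm

universe u

variable {α : Type u} [Fintype α] [DecidableEq α]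

/-- An involution with at most one fixed point. -/
def IsPairing (z : Perm α) : Prop :=
  (∀ x, z (z x) = x) ∧ ∀ x y, z x = x → z y = y → x = y

/-- The permutations commuting with `z` and moving every point inside its `z`-cycle. -/
def base (z : Perm α) : Subgroup (Perm α) where
  carrier := {c | Commute c z ∧ ∀ x, z.SameCycle x (c x)}
  one_mem' := ⟨Commute.one_left z, fun x => SameCycle.refl z x⟩
  mul_mem' {a b} ha hb := ⟨ha.1.mul_left hb.1, fun x => (hb.2 x).trans (ha.2 (b x))⟩
  inv_mem' {a} ha := ⟨ha.1.inv_left, fun x => by simpa using (ha.2 (a⁻¹ x)).symm⟩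

theorem sameCycle_iff {z : Perm α} (hz : ∀ x, z (z x) = x) {x y : α} :
    z.SameCycle x y ↔ y = x ∨ y = z x := by
  constructor
  · rintro ⟨i, rfl⟩
    have h2 : z ^ (2 : ℤ) = 1 := by
      ext a
      rw [zpow_two, Perm.mul_apply, hz, Perm.one_apply]
    rcases Int.even_or_odd i with ⟨k, rfl⟩ | ⟨k, rfl⟩
    · left
      rw [← two_mul, zpow_mul, h2, one_zpow, Perm.one_apply]
    · right
      rw [zpow_add, zpow_mul, h2, one_zpow, one_mul, zpow_one]
  · rintro (rfl | rfl)
    · exact SameCycle.refl z _
    · exact ⟨1, by simp⟩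

theorem mem_base_iff {z c : Perm α} (hz : ∀ x, z (z x) = x) :
    c ∈ base z ↔ Commute c z ∧ ∀ x, c x = x ∨ c x = z x := by
  show (_ ∧ _) ↔ _
  simp only [sameCycle_iff hz]

theorem base_le_centralizer (z : Perm α) : base z ≤ Subgroup.centralizer {z} := fun _ hc =>
  Subgroup.mem_centralizer_singleton_iff.2 hc.1

theorem centralizer_le_normalizer_base (z : Perm α) :
    Subgroup.centralizer {z} ≤ Subgroup.normalizer (base z : Set (Perm α)) := by
  have key : ∀ g c : Perm α, Commute g z → c ∈ base z → g * c * g⁻¹ ∈ base z := by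
    intro g c hg hc
    refine ⟨(hg.mul_left hc.1).mul_left hg.inv_left, fun x => ?_⟩
    obtain ⟨i, hi⟩ := hc.2 (g⁻¹ x)
    refine ⟨i, ?_⟩
    rw [Perm.mul_apply, Perm.mul_apply, ← hi, ← Perm.mul_apply g (z ^ i),
      (hg.zpow_right i).eq, Perm.mul_apply, Perm.coe_inv, Equiv.apply_symm_apply]
  intro g hg
  have hg' : Commute g z := Subgroup.mem_centralizer_singleton_iff.1 hg
  refine Subgroup.mem_normalizer_iff.2 fun c => ⟨key g c hg', fun h => ?_⟩
  have h2 := key g⁻¹ _ hg'.inv_left h
  rwa [show g⁻¹ * (g * c * g⁻¹) * g⁻¹⁻¹ = c by group] at h2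

theorem isPGroup_base {z : Perm α} (hz : ∀ x, z (z x) = x) : IsPGroup 2 (base z) := by
  rintro ⟨c, hc⟩
  obtain ⟨hcz, hc⟩ := (mem_base_iff hz).1 hc
  refine ⟨1, Subtype.ext (Perm.ext fun x => ?_)⟩
  rw [pow_one, SubmonoidClass.coe_pow, pow_two, Perm.mul_apply]
  rcases hc x with h | h
  · rw [h, h]
    rfl
  · rw [h, ← Perm.mul_apply c z, hcz.eq, Perm.mul_apply, h, hz]
    rfl

/-- Pairings exist and form a class of odd size, so every 2-group fixes one. -/
theorem exists_pairing (P : Subgroup (Perm α)) (hP : IsPGroup 2 P) :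
    ∃ z : Perm α, IsPairing z ∧ P ≤ Subgroup.centralizer {z} := by
  classical
  set n := Fintype.card α with hn
  let p : Perm α → Prop := fun g => g.cycleType = Multiset.replicate (n / 2) 2
  let T := {g : Perm α // p g}
  let act : MulAction ↥P T :=
    { smul := fun g w => ⟨g.1 * w.1 * g.1⁻¹, by
        show Perm.cycleType _ = _
        rw [cycleType_conj]
        exact w.2⟩
      one_smul := fun w => Subtype.ext (by show (1 : Perm α) * w.1 * 1⁻¹ = w.1; simp)
      mul_smul := fun g g' w => Subtype.ext (by
        show (g.1 * g'.1) * w.1 * (g.1 * g'.1)⁻¹ = g.1 * (g'.1 * w.1 * g'.1⁻¹) * g.1⁻¹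
        group) }
  have hodd : Odd (Nat.card T) := by
    rw [Nat.card_eq_fintype_card, Fintype.card_subtype]
    have h := card_of_cycleType_mul_eq (α := α) (Multiset.replicate (n / 2) 2)
    rw [if_pos ⟨by simp only [Multiset.sum_replicate, smul_eq_mul]; omega,
      fun a ha => by rw [Multiset.eq_of_mem_replicate ha]⟩] at h
    simp only [Multiset.sum_replicate, Multiset.prod_replicate, smul_eq_mul, ← hn] at h
    have hprod : (∏ i ∈ (Multiset.replicate (n / 2) 2).toFinset,
        ((Multiset.replicate (n / 2) 2).count i).factorial) = (n / 2).factorial := by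
      rcases Nat.eq_zero_or_pos (n / 2) with h0 | h0
      · simp [h0]
      · simp [Multiset.toFinset_replicate, h0.ne', Multiset.count_replicate_self]
    rw [hprod] at h
    have hlt : n - n / 2 * 2 < 2 := by omega
    have hf : (n - n / 2 * 2).factorial = 1 := Nat.factorial_eq_one.2 (by omega)
    rw [hf, one_mul] at h
    set c := Finset.card {g : Perm α | g.cycleType = Multiset.replicate (n / 2) 2} with hc
    have h2 := congrArg (padicValNat 2) h
    have hcne : c ≠ 0 := by
      intro e
      rw [e, zero_mul] at h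
      exact n.factorial_ne_zero h.symm
    rw [padicValNat.mul hcne (Nat.mul_ne_zero (by positivity) (Nat.factorial_ne_zero _)),
      padicValNat.mul (by positivity) (Nat.factorial_ne_zero _), padicValNat.prime_pow] at h2
    have hfac : padicValNat 2 n.factorial = padicValNat 2 (n / 2).factorial + n / 2 := by
      rw [← padicValNat_factorial_mul (p := 2), ← padicValNat_factorial_mul_add (p := 2) (n / 2)
        (Nat.mod_lt n two_pos), Nat.div_add_mod]
    have hv : padicValNat 2 c = 0 := by omega
    rw [Nat.odd_iff, ← Nat.two_dvd_ne_zero]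
    intro hd
    have := one_le_padicValNat_of_dvd hcne hd
    omega
  have hex := hP.nonempty_fixed_point_of_prime_not_dvd_card T
    (fun hd => Nat.not_even_iff_odd.2 hodd (even_iff_two_dvd.2 hd))
  obtain ⟨⟨z, hzt⟩, hfix⟩ := hex
  refine ⟨z, ⟨?_, ?_⟩, ?_⟩
  · intro x
    have h2 : orderOf z ∣ 2 := by
      rw [← lcm_cycleType, hzt]
      exact Multiset.lcm_dvd.2 fun a ha => by rw [Multiset.eq_of_mem_replicate ha]
    have h3 := congrArg (fun g : Perm α => g x) (orderOf_dvd_iff_pow_eq_one.1 h2)
    simpa [pow_two] using h3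
  · intro x y hx hy
    by_contra hxy
    have hsub : z.support ⊆ Finset.univ \ {x, y} := by
      intro w hw
      have hw' := mem_support.1 hw
      simp only [Finset.mem_sdiff, Finset.mem_univ, true_and, Finset.mem_insert,
        Finset.mem_singleton]
      rintro (rfl | rfl) <;> contradiction
    have h1 := Finset.card_le_card hsub
    rw [← sum_cycleType, hzt, Multiset.sum_replicate, smul_eq_mul, Finset.card_sdiff,
      Finset.inter_univ, Finset.card_pair hxy, Finset.card_univ, ← hn] at h1
    have h2 := Finset.card_le_univ ({x, y} : Finset α)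
    rw [Finset.card_pair hxy, ← hn] at h2
    omega
  · intro g hg
    rw [Subgroup.mem_centralizer_singleton_iff]
    have h4 : g * z * g⁻¹ = z := congrArg Subtype.val (hfix ⟨g, hg⟩)
    exact mul_inv_eq_iff_eq_mul.1 h4

/-- A swap along a 2-cycle of `z` is in the base. -/
theorem swap_mem_base {z : Perm α} (hz : ∀ x, z (z x) = x) (x : α) : swap x (z x) ∈ base z := by
  refine (mem_base_iff hz).2 ⟨Perm.ext fun a => ?_, fun a => ?_⟩
  · simp only [Perm.mul_apply, swap_apply_def]
    grind
  · simp only [swap_apply_def]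
    grind

/-- A Sylow 2-subgroup of the centralizer contains the base. -/
theorem base_le {z : Perm α} (hz : ∀ x, z (z x) = x) (P : Sylow 2 (Perm α))
    (hP : (P : Subgroup (Perm α)) ≤ Subgroup.centralizer {z}) :
    base z ≤ (P : Subgroup (Perm α)) := by
  have h : IsPGroup 2 ↥((P : Subgroup (Perm α)) ⊔ base z) :=
    P.isPGroup'.to_sup_of_normal_right' (isPGroup_base hz)
      (hP.trans (centralizer_le_normalizer_base z))
  exact le_sup_right.trans_eq (P.is_maximal' h le_sup_left)

/-- If `T` is a subgroup of `P` whose centralizer lies in the base and which covers `P` modulo the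
base, then `N(T) ≤ P`, given the statement `N = P` for the action on the 2-cycles. -/
theorem normalizer_le_of_step {z : Perm α} (hz : IsPairing z) (P : Sylow 2 (Perm α))
    (hP : (P : Subgroup (Perm α)) ≤ Subgroup.centralizer {z})
    (IH : ∀ Q : Sylow 2 (Perm z.cycleFactorsFinset),
      Subgroup.normalizer ((Q : Subgroup (Perm z.cycleFactorsFinset)) : Set _) ≤ (Q : Subgroup (Perm z.cycleFactorsFinset)))
    (T : Subgroup (Perm α)) (hTP : T ≤ (P : Subgroup (Perm α)))
    (hcent : Subgroup.centralizer (T : Set (Perm α)) ≤ base z)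
    (himg : ∀ p ∈ (P : Subgroup (Perm α)), ∃ t ∈ T, p * t⁻¹ ∈ base z) :
    Subgroup.normalizer (T : Set (Perm α)) ≤ (P : Subgroup (Perm α)) := by
  classical
  intro g hg
  have hzT : z ∈ Subgroup.centralizer (T : Set (Perm α)) := by
    rw [Subgroup.mem_centralizer_iff]
    intro t ht
    exact Subgroup.mem_centralizer_singleton_iff.1 (hP (hTP ht))
  have hwT : g * z * g⁻¹ ∈ Subgroup.centralizer (T : Set (Perm α)) := by
    rw [Subgroup.mem_centralizer_iff]
    intro t ht
    have h1 : g⁻¹ * t * g ∈ T := (Subgroup.mem_normalizer_iff''.1 hg t).1 ht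
    have h2 := Subgroup.mem_centralizer_iff.1 hzT _ h1
    calc t * (g * z * g⁻¹) = g * ((g⁻¹ * t * g) * z) * g⁻¹ := by group
      _ = g * (z * (g⁻¹ * t * g)) * g⁻¹ := by rw [h2]
      _ = g * z * g⁻¹ * t := by group
  obtain ⟨-, hw⟩ := (mem_base_iff hz.1).1 (hcent hwT)
  have hsub : (g * z * g⁻¹).support ⊆ z.support := by
    intro x hx
    rw [mem_support] at hx ⊢
    intro e
    rcases hw x with h | h
    · exact hx h
    · exact hx (h.trans e)
  have hsupp : (g * z * g⁻¹).support = z.support :=
    Finset.eq_of_subset_of_card_le hsub (by rw [card_support_conj])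
  have hgz : g * z * g⁻¹ = z := by
    ext x
    rcases hw x with h | h
    · have hx : x ∉ (g * z * g⁻¹).support := by rw [notMem_support, h]
      rw [hsupp, notMem_support] at hx
      rw [h, hx]
    · exact h
  have hgC : g ∈ Subgroup.centralizer {z} :=
    Subgroup.mem_centralizer_singleton_iff.2 (mul_inv_eq_iff_eq_mul.1 hgz)
  set f := OnCycleFactors.toPermHom z with hf
  have hcyc : ∀ c ∈ z.cycleFactorsFinset, ∃ x, z x ≠ x ∧ c = swap x (z x) := by
    intro c hc
    obtain ⟨hc1, hc2⟩ := mem_cycleFactorsFinset_iff.1 hc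
    obtain ⟨x, hx, -⟩ := id hc1
    have hx' : x ∈ c.support := mem_support.2 hx
    refine ⟨x, (hc2 x hx') ▸ hx, ?_⟩
    rw [← hc2 x hx']
    exact hc1.eq_swap_of_apply_apply_eq_self hx (by
      rw [hc2 x hx', hc2 _ ((hc2 x hx') ▸ apply_mem_support.2 hx'), hz.1])
  have hker : ∀ u : ↥(Subgroup.centralizer {z}), f u = 1 → (u : Perm α) ∈ base z := by
    intro u hu
    have hu' := (OnCycleFactors.mem_ker_toPermHom_iff z u).1 (MonoidHom.mem_ker.2 hu)
    refine (mem_base_iff hz.1).2 ⟨Subgroup.mem_centralizer_singleton_iff.1 u.2, fun x => ?_⟩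
    by_cases hx : z x = x
    · left
      refine hz.2 _ _ ?_ hx
      rw [← Perm.mul_apply, ← Subgroup.mem_centralizer_singleton_iff.1 u.2, Perm.mul_apply, hx]
    · have hc : z.cycleOf x ∈ z.cycleFactorsFinset :=
        cycleOf_mem_cycleFactorsFinset_iff.2 (mem_support.2 hx)
      have h1 := hu' _ hc
      obtain ⟨y, hy, hcy⟩ := hcyc _ hc
      have hxy : x = y ∨ x = z y := by
        have : z.cycleOf x x ≠ x := by rwa [cycleOf_apply_self]
        rw [hcy] at this
        simp only [swap_apply_def] at this
        grind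
      rw [hcy] at h1
      have h2 := congrArg (fun k : Perm α => k x) h1.eq
      simp only [Perm.mul_apply, swap_apply_def] at h2
      have h5 : (u : Perm α) y = (u : Perm α) (z y) → y = z y := fun h => (u : Perm α).injective h
      have h6 := hz.1 y
      rcases hxy with rfl | rfl <;> grind
  have hsurj : Function.Surjective f := by
    intro τ
    refine OnCycleFactors.mem_range_toPermHom_iff.2 fun c => ?_
    obtain ⟨x, hx, h1⟩ := hcyc _ (τ c).2
    obtain ⟨y, hy, h2⟩ := hcyc _ c.2
    rw [h1, h2, card_support_swap (Ne.symm hx), card_support_swap (Ne.symm hy)]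
  set P' := P.subtype hP with hP'
  have hQ := IH (P'.mapSurjective hsurj)
  have hmem : f ⟨g, hgC⟩ ∈ ((P'.mapSurjective hsurj : Sylow 2 _) : Subgroup _) := by
    apply hQ
    rw [Subgroup.mem_normalizer_iff, Sylow.coe_mapSurjective]
    have key : ∀ k : ↥(Subgroup.centralizer {z}),
        (k : Perm α) ∈ Subgroup.normalizer (T : Set (Perm α)) →
        ∀ h, h ∈ (P' : Subgroup _).map f → f k * h * (f k)⁻¹ ∈ (P' : Subgroup _).map f := by
      rintro k hk _ ⟨p, hp, rfl⟩
      rw [hP', Sylow.coe_subtype, SetLike.mem_coe, Subgroup.mem_subgroupOf] at hp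
      obtain ⟨t, ht, hpt⟩ := himg _ hp
      have htC : t ∈ Subgroup.centralizer {z} := hP (hTP ht)
      have hfpt : f p = f ⟨t, htC⟩ := by
        rw [← mul_inv_eq_one, ← map_inv, ← map_mul, ← MonoidHom.mem_ker,
          OnCycleFactors.mem_ker_toPermHom_iff]
        intro c hc
        obtain ⟨x, hx, rfl⟩ := hcyc c hc
        obtain ⟨hb1, hb2⟩ := (mem_base_iff hz.1).1 hpt
        refine Perm.ext fun a => ?_
        show ((p : Perm α) * t⁻¹) (swap x (z x) a) = swap x (z x) (((p : Perm α) * t⁻¹) a)
        have hb3 : ∀ a, ((p : Perm α) * t⁻¹) (z a) = z (((p : Perm α) * t⁻¹) a) :=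
          fun a => congrArg (fun k : Perm α => k a) hb1.eq
        generalize (p : Perm α) * t⁻¹ = b at hb2 hb3
        simp only [swap_apply_def]
        grind [hz.1 x, hz.1 a]
      rw [hfpt, ← map_inv, ← map_mul, ← map_mul]
      refine ⟨_, ?_, rfl⟩
      rw [hP', Sylow.coe_subtype, SetLike.mem_coe, Subgroup.mem_subgroupOf]
      exact hTP ((Subgroup.mem_normalizer_iff.1 hk t).1 ht)
    refine fun h => ⟨key _ hg h, fun hh => ?_⟩
    have h3 := key ⟨g, hgC⟩⁻¹ (inv_mem hg) _ hh
    rwa [map_inv, show (f ⟨g, hgC⟩)⁻¹ * (f ⟨g, hgC⟩ * h * (f ⟨g, hgC⟩)⁻¹) * (f ⟨g, hgC⟩)⁻¹⁻¹ = h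
      by group] at h3
  rw [Sylow.coe_mapSurjective] at hmem
  obtain ⟨p, hp, hfp⟩ := hmem
  rw [hP', Sylow.coe_subtype, SetLike.mem_coe, Subgroup.mem_subgroupOf] at hp
  have h5 : g * (p : Perm α)⁻¹ ∈ base z :=
    hker (⟨g, hgC⟩ * p⁻¹) (by rw [map_mul, map_inv, hfp, mul_inv_cancel])
  have h6 := mul_mem (base_le hz.1 P hP h5) hp
  rwa [inv_mul_cancel_right] at h6

/-- The number of 2-cycles of a pairing is less than the number of points. -/
theorem card_cycleFactorsFinset_lt [Nonempty α] (z : Perm α) :
    Fintype.card z.cycleFactorsFinset < Fintype.card α := by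
  rw [Fintype.card_coe]
  rcases Finset.eq_empty_or_nonempty z.cycleFactorsFinset with h | h
  · rw [h]
    exact Fintype.card_pos
  · have h1 : z.cycleFactorsFinset.card = Multiset.card z.cycleType := by
      rw [cycleType_def, Multiset.card_map]
      rfl
    have h2 : Multiset.card z.cycleType • 2 ≤ z.cycleType.sum :=
      Multiset.card_nsmul_le_sum fun a ha => two_le_of_mem_cycleType ha
    rw [sum_cycleType, smul_eq_mul] at h2
    have h3 := Finset.card_le_univ z.support
    have h4 := h.card_pos
    omega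

/-- The centralizer of a Sylow 2-subgroup lies in the base of a pairing it centralizes. -/
theorem centralizer_le_base {z : Perm α} (hz : IsPairing z) {T : Subgroup (Perm α)}
    (hmove : ∀ c ∈ Subgroup.centralizer (T : Set (Perm α)), ∀ x, z x ≠ x → c x = x ∨ c x = z x) :
    Subgroup.centralizer (T : Set (Perm α)) ≤ base z := by
  intro c hc
  have hall : ∀ x, c x = x ∨ c x = z x := by
    intro x
    by_cases hx : z x = x
    · left
      by_contra hne
      have hcx : z (c x) ≠ c x := fun h => hne (hz.2 _ _ h hx)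
      have h1 := hmove c⁻¹ (inv_mem hc) (c x) hcx
      rw [Perm.coe_inv, Equiv.symm_apply_apply] at h1
      rcases h1 with h | h
      · exact hne h.symm
      · exact hne (by rw [← hz.1 (c x), ← h, hx])
    · exact hmove c hc x hx
  refine (mem_base_iff hz.1).2 ⟨Perm.ext fun x => ?_, hall⟩
  rw [Perm.mul_apply, Perm.mul_apply]
  have h1 := hall x
  have h2 := hall (z x)
  have h3 : c x = c (z x) → x = z x := fun h => c.injective h
  grind [hz.1 x]

/-- Sylow 2-subgroups of symmetric groups are self-normalizing. -/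
theorem normalizer_sylow (P : Sylow 2 (Perm α)) :
    Subgroup.normalizer ((P : Subgroup (Perm α)) : Set _) ≤ (P : Subgroup (Perm α)) := by
  induction hn : Fintype.card α using Nat.strong_induction_on generalizing α with
  | _ n IH =>
    rcases isEmpty_or_nonempty α with h | h
    · intro g _
      rw [show g = 1 from Subsingleton.elim _ _]
      exact one_mem _
    · obtain ⟨z, hz, hPz⟩ := exists_pairing (P : Subgroup (Perm α)) P.isPGroup'
      refine normalizer_le_of_step hz P hPz
        (fun Q => IH _ (hn ▸ card_cycleFactorsFinset_lt z) Q rfl) _ le_rfl ?_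
        (fun p hp => ⟨p, hp, by rw [mul_inv_cancel]; exact one_mem _⟩)
      refine centralizer_le_base hz fun c hc x hx => ?_
      have h1 := Subgroup.mem_centralizer_iff.1 hc _ (base_le hz.1 P hPz (swap_mem_base hz.1 x))
      have h2 := congrArg (fun k : Perm α => k x) h1
      simp only [Perm.mul_apply, swap_apply_def] at h2
      have h4 : c x = c (z x) → x = z x := fun h => c.injective h
      grind

/-- From six points on, `N(P ⊓ Alt) ≤ P` for a Sylow 2-subgroup `P`. -/
theorem normalizer_sylow_inf_alternating (hcard : 6 ≤ Fintype.card α) (P : Sylow 2 (Perm α)) :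
    Subgroup.normalizer (((P : Subgroup (Perm α)) ⊓ alternatingGroup α : Subgroup (Perm α)) :
      Set (Perm α)) ≤ (P : Subgroup (Perm α)) := by
  obtain ⟨z, hz, hPz⟩ := exists_pairing (P : Subgroup (Perm α)) P.isPGroup'
  have hB := base_le hz.1 P hPz
  have hfix : ∀ x y, z x = x → z y = y → x = y := hz.2
  refine normalizer_le_of_step hz P hPz (fun Q => normalizer_sylow Q) _ inf_le_left ?_ ?_
  · refine centralizer_le_base hz fun c hc x hx => ?_
    -- two more pairs
    obtain ⟨y, hy1, hy⟩ : ∃ y, y ∉ ({x, z x} : Finset α) ∧ z y ≠ y := by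
      by_contra hcon
      push Not at hcon
      have hle : (Finset.univ \ {x, z x} : Finset α).card ≤ 1 :=
        Finset.card_le_one.2 fun a ha b hb => hfix a b
          (hcon a (Finset.mem_sdiff.1 ha).2) (hcon b (Finset.mem_sdiff.1 hb).2)
      rw [Finset.card_sdiff, Finset.inter_univ, Finset.card_univ] at hle
      have := Finset.card_le_two (a := x) (b := z x)
      omega
    obtain ⟨w, hw1, hw⟩ : ∃ w, w ∉ ({x, z x, y, z y} : Finset α) ∧ z w ≠ w := by
      by_contra hcon
      push Not at hcon
      have hle : (Finset.univ \ {x, z x, y, z y} : Finset α).card ≤ 1 :=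
        Finset.card_le_one.2 fun a ha b hb => hfix a b
          (hcon a (Finset.mem_sdiff.1 ha).2) (hcon b (Finset.mem_sdiff.1 hb).2)
      rw [Finset.card_sdiff, Finset.inter_univ, Finset.card_univ] at hle
      have := Finset.card_le_four (a := x) (b := z x) (c := y) (d := z y)
      omega
    have hmem : ∀ a b, z a ≠ a → z b ≠ b → swap a (z a) * swap b (z b) ∈
        ((P : Subgroup (Perm α)) ⊓ alternatingGroup α : Subgroup (Perm α)) := fun a b ha hb =>
      ⟨mul_mem (hB (swap_mem_base hz.1 a)) (hB (swap_mem_base hz.1 b)),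
        mem_alternatingGroup.2 (by
          rw [Perm.sign_mul, sign_swap (Ne.symm ha), sign_swap (Ne.symm hb)]
          rfl)⟩
    have e1 := congrArg (fun k : Perm α => k x)
      (Subgroup.mem_centralizer_iff.1 hc _ (hmem x y hx hy))
    have e2 := congrArg (fun k : Perm α => k x)
      (Subgroup.mem_centralizer_iff.1 hc _ (hmem x w hx hw))
    simp only [Finset.mem_insert, Finset.mem_singleton, not_or] at hy1 hw1
    have i1 : z (z x) = x := hz.1 x
    have i2 : z (z y) = y := hz.1 y
    have i3 : z (z w) = w := hz.1 w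
    have i4 : c x = c (z x) → x = z x := fun h => c.injective h
    simp only [Perm.mul_apply, swap_apply_def] at e1 e2
    grind
  · intro p hp
    by_cases hs : sign p = 1
    · exact ⟨p, ⟨hp, mem_alternatingGroup.2 hs⟩, by rw [mul_inv_cancel]; exact one_mem _⟩
    · obtain ⟨x, hx⟩ : ∃ x, z x ≠ x := by
        by_contra hcon
        push Not at hcon
        have : Fintype.card α ≤ 1 :=
          Fintype.card_le_one_iff.2 fun a b => hfix a b (hcon a) (hcon b)
        omega
      refine ⟨swap x (z x) * p, ⟨mul_mem (hB (swap_mem_base hz.1 x)) hp, mem_alternatingGroup.2 ?_⟩, ?_⟩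
      · rw [Perm.sign_mul, sign_swap (Ne.symm hx), (Int.units_eq_one_or _).resolve_left hs]
        rfl
      · rw [mul_inv_rev, mul_inv_cancel_left, Equiv.swap_inv]
        exact swap_mem_base hz.1 x

end CfsgLib.AltSylow
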