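import Cfsg.Agent.AltSylow.Basic

/-!
# Sets left invariant by a Sylow 2-subgroup of a symmetric group
-/

set_option autoImplicit false

namespace CfsgLib.AltSylow

open Equiv Equiv.Perm
open scoped Pointwise

variable {α : Type*} [Fintype α] [DecidableEq α]

theorem mem_smul_finset_perm {g : Perm α} {A : Finset α} {x : α} : g x ∈ g • A ↔ x ∈ A :=
  Finset.smul_mem_smul_finset_iff g

/-- The setwise stabilizer of `A` as a membership condition. -/
theorem mem_stabilizer_finset {g : Perm α} {A : Finset α} :
    g ∈ MulAction.stabilizer (Perm α) A ↔ ∀ x, g x ∈ A ↔ x ∈ A := by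
  rw [MulAction.mem_stabilizer_iff]
  constructor
  · intro h x
    conv_lhs => rw [← h]
    exact mem_smul_finset_perm
  · intro h
    ext y
    rw [← Finset.inv_smul_mem_iff, Perm.smul_def]
    have := h (g⁻¹ y)
    rw [Perm.coe_inv, Equiv.apply_symm_apply] at this
    rw [Perm.coe_inv]
    exact this.symm

/-- The `Perm α`-orbit of a finset is the set of finsets of the same size. -/
theorem orbit_finset (A : Finset α) :
    MulAction.orbit (Perm α) A = ↑(Finset.univ.powersetCard A.card : Finset (Finset α)) := by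
  ext B
  rw [Finset.mem_coe, Finset.mem_powersetCard, MulAction.mem_orbit_iff]
  constructor
  · rintro ⟨g, rfl⟩
    exact ⟨Finset.subset_univ _, Finset.card_smul_finset g A⟩
  · rintro ⟨-, hB⟩
    let e : {x // x ∈ A} ≃ {x // x ∈ B} := Fintype.equivOfCardEq (by simp [hB])
    refine ⟨e.extendSubtype, ?_⟩
    refine Finset.eq_of_subset_of_card_le ?_ ?_
    · intro y hy
      obtain ⟨x, hx, rfl⟩ := Finset.mem_smul_finset.1 hy
      exact Equiv.extendSubtype_mem e x hx
    · rw [Finset.card_smul_finset, hB]

/-- If a Sylow 2-subgroup leaves `A` invariant, there are oddly many sets of that size. -/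
theorem odd_choose_of_invariant (P : Sylow 2 (Perm α)) (A : Finset α)
    (hA : (P : Subgroup (Perm α)) ≤ MulAction.stabilizer (Perm α) A) :
    Odd ((Fintype.card α).choose A.card) := by
  have h1 : (MulAction.stabilizer (Perm α) A).index = (Fintype.card α).choose A.card := by
    rw [MulAction.index_stabilizer, orbit_finset, Set.ncard_coe_finset, Finset.card_powersetCard,
      Finset.card_univ]
  rw [← h1]
  by_contra h
  rw [Nat.not_odd_iff_even, even_iff_two_dvd] at h
  exact P.not_dvd_index (h.trans (Subgroup.index_dvd_of_le hA))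

/-- A Sylow 2-subgroup leaves invariant some set of each size that occurs oddly often. -/
theorem exists_invariant (P : Sylow 2 (Perm α)) {a : ℕ} (ha : Odd ((Fintype.card α).choose a)) :
    ∃ A : Finset α, A.card = a ∧ (P : Subgroup (Perm α)) ≤ MulAction.stabilizer (Perm α) A := by
  let T := {A : Finset α // A.card = a}
  let act : MulAction ↥(P : Subgroup (Perm α)) T :=
    { smul := fun g A => ⟨(g : Perm α) • A.1, by rw [Finset.card_smul_finset]; exact A.2⟩
      one_smul := fun A => Subtype.ext (one_smul (Perm α) A.1)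
      mul_smul := fun g h A => Subtype.ext (mul_smul (g : Perm α) (h : Perm α) A.1) }
  have hcard : Nat.card T = (Fintype.card α).choose a := by
    rw [Nat.card_eq_fintype_card]
    exact Fintype.card_finset_len a
  obtain ⟨⟨A, hA⟩, hfix⟩ := P.isPGroup'.nonempty_fixed_point_of_prime_not_dvd_card T
    (fun hd => Nat.not_even_iff_odd.2 (hcard ▸ ha) (even_iff_two_dvd.2 hd))
  exact ⟨A, hA, fun g hg => congrArg Subtype.val (hfix ⟨g, hg⟩)⟩

/-- `(2^i + b).choose 2^i` is odd for `b < 2^i`. -/
theorem odd_choose_top_bit {i b : ℕ} (hb : b < 2 ^ i) : Odd ((2 ^ i + b).choose (2 ^ i)) := by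
  have h0 : padicValNat 2 ((2 ^ i + b).choose (2 ^ i)) = 0 := by
    rw [add_comm, padicValNat_choose' (p := 2) (Nat.lt_succ_self _), Finset.card_eq_zero,
      Finset.filter_eq_empty_iff]
    intro j _
    rw [not_le]
    rcases Nat.lt_or_ge i j with h | h
    · have h2 : 2 ^ (i + 1) ≤ 2 ^ j := Nat.pow_le_pow_right two_pos h
      rw [pow_succ] at h2
      rw [Nat.mod_eq_of_lt (by omega), Nat.mod_eq_of_lt (by omega)]
      omega
    · rw [Nat.mod_eq_zero_of_dvd (pow_dvd_pow 2 h), zero_add]
      exact Nat.mod_lt _ (by positivity)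
  rw [Nat.odd_iff, ← Nat.two_dvd_ne_zero]
  intro hd
  have := one_le_padicValNat_of_dvd (Nat.choose_pos (Nat.le_add_right _ _)).ne' hd
  omega

/-- `(2^k).choose r` is even for `0 < r < 2^k`. -/
theorem even_choose_pow {k r : ℕ} (h0 : 0 < r) (h1 : r < 2 ^ k) : Even ((2 ^ k).choose r) :=
  even_iff_two_dvd.2 (Nat.prime_two.dvd_choose_pow h0.ne' h1.ne)

end CfsgLib.AltSylow
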