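import Cfsg.Agent.AltSylow.Invariant

/-!
# Overgroups of Sylow 2-subgroups in symmetric and alternating groups
-/

set_option autoImplicit false

namespace CfsgLib.AltSylow

open Equiv Equiv.Perm
open scoped Pointwise

variable {α : Type*} [Fintype α] [DecidableEq α]

/-- The order of `H.subgroupOf K`. -/
theorem card_subgroupOf_eq {G : Type*} [Group G] (H K : Subgroup G) :
    Nat.card (H.subgroupOf K) = Nat.card ↥(H ⊓ K) := by
  rw [← Subgroup.inf_subgroupOf_right]
  exact Nat.card_congr (Subgroup.subgroupOfEquivOfLe inf_le_right).toEquiv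

/-- A small finset misses a point. -/
theorem exists_notMem (s : Finset α) (h : s.card < Fintype.card α) : ∃ x, x ∉ s := by
  by_contra hcon
  push Not at hcon
  rw [Finset.eq_univ_iff_forall.2 hcon, Finset.card_univ] at h
  exact h.false

/-- A 3-cycle `a ↦ b ↦ c ↦ a`. -/
def cyc3 (a b c : α) : Perm α := swap a b * swap b c

theorem cyc3_mem_alternating {a b c : α} (hab : a ≠ b) (hbc : b ≠ c) :
    cyc3 a b c ∈ alternatingGroup α :=
  mem_alternatingGroup.2 (by rw [cyc3, Perm.sign_mul, sign_swap hab, sign_swap hbc]; rfl)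

theorem cyc3_isThreeCycle {a b c : α} (hab : a ≠ b) (hac : a ≠ c) (hbc : b ≠ c) :
    IsThreeCycle (cyc3 a b c) := by
  rw [cyc3, swap_comm a b]
  exact isThreeCycle_swap_mul_swap_same hab.symm hbc hac

theorem cyc3_mem_stabilizer {A : Finset α} {a b c : α} (ha : a ∈ A) (hb : b ∈ A) (hc : c ∈ A) :
    cyc3 a b c ∈ MulAction.stabilizer (Perm α) A := by
  rw [mem_stabilizer_finset]
  intro x
  simp only [cyc3, Perm.mul_apply, swap_apply_def]
  grind

theorem conj_cyc3 (g : Perm α) (a b c : α) : g * cyc3 a b c * g⁻¹ = cyc3 (g a) (g b) (g c) := by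
  have hs : ∀ a b, g * swap a b * g⁻¹ = swap (g a) (g b) := fun a b => by
    rw [mul_inv_eq_iff_eq_mul, Equiv.mul_swap_eq_swap_mul]
  rw [cyc3, cyc3, ← hs, ← hs]
  group

/-- A subgroup that is transitive, with a point stabilizer transitive on the rest, and containing
a 3-cycle contains the alternating group. -/
theorem alternating_le_of_threeCycle {N : Subgroup (Perm α)} {p : α}
    (hmove : ∀ x, ∃ g ∈ N, g p = x)
    (htr : ∀ x y, x ≠ p → y ≠ p → ∃ g ∈ N, g p = p ∧ g x = y)
    {t : Perm α} (ht : IsThreeCycle t) (htN : t ∈ N) : alternatingGroup α ≤ N := by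
  refine alternatingGroup_le_of_isPreprimitive_of_isThreeCycle_mem ?_ ht htN
  refine MulAction.isPreprimitive_of_is_two_pretransitive (MulAction.is_two_pretransitive_iff.2 ?_)
  intro a b c d hab hcd
  obtain ⟨g, hgN, hg⟩ := hmove a
  obtain ⟨h, hhN, hh⟩ := hmove c
  have hb' : g⁻¹ b ≠ p := fun e => hab (by rw [← hg, ← e, Perm.coe_inv, Equiv.apply_symm_apply])
  have hd' : h⁻¹ d ≠ p := fun e => hcd (by rw [← hh, ← e, Perm.coe_inv, Equiv.apply_symm_apply])
  obtain ⟨k, hkN, hkp, hk⟩ := htr _ _ hb' hd'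
  refine ⟨⟨h * k * g⁻¹, mul_mem (mul_mem hhN hkN) (inv_mem hgN)⟩, ?_, ?_⟩
  · show h (k (g⁻¹ a)) = c
    rw [← hg, Perm.coe_inv, Equiv.symm_apply_apply, hkp, hh]
  · show h (k (g⁻¹ b)) = d
    rw [hk, Perm.coe_inv, Equiv.apply_symm_apply]

/-- A product of two transposition pairs sharing exactly one point has a 3-cycle as square. -/
theorem sq_overlap {a b c u v e f : α} (hab : a ≠ b) (hac : a ≠ c) (hbc : b ≠ c)
    (huv : u ≠ v) (hef : e ≠ f) (ha : a ≠ u ∧ a ≠ v ∧ a ≠ e ∧ a ≠ f)
    (hb : b ≠ u ∧ b ≠ v ∧ b ≠ e ∧ b ≠ f) (hc : c ≠ u ∧ c ≠ v ∧ c ≠ e ∧ c ≠ f)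
    (hue : u ≠ e ∧ u ≠ f ∧ v ≠ e ∧ v ≠ f) :
    ((swap b c * swap u v) * (swap a b * swap e f)) *
      ((swap b c * swap u v) * (swap a b * swap e f)) = cyc3 a b c := by
  ext x
  simp only [cyc3, Perm.mul_apply, swap_apply_def]
  grind

/-- `C(T) ≤ base z` gives that `z` lies in a Sylow 2-subgroup centralizing it. -/
theorem pairing_mem (z : Perm α) (hz : IsPairing z) (P : Sylow 2 (Perm α))
    (hP : (P : Subgroup (Perm α)) ≤ Subgroup.centralizer {z}) : z ∈ (P : Subgroup (Perm α)) := by
  apply base_le hz.1 P hP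
  exact (mem_base_iff hz.1).2 ⟨Commute.refl z, fun x => Or.inr rfl⟩

section Odd

variable {z : Perm α}

/-- The double transposition along two `z`-cycles lies in `P ⊓ Alt`. -/
theorem double_mem (hz : IsPairing z) (P : Sylow 2 (Perm α))
    (hP : (P : Subgroup (Perm α)) ≤ Subgroup.centralizer {z}) {a b : α} (ha : z a ≠ a)
    (hb : z b ≠ b) :
    swap a (z a) * swap b (z b) ∈
      (P : Subgroup (Perm α)) ⊓ alternatingGroup α :=
  ⟨mul_mem (base_le hz.1 P hP (swap_mem_base hz.1 a)) (base_le hz.1 P hP (swap_mem_base hz.1 b)),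
    mem_alternatingGroup.2 (by
      rw [Perm.sign_mul, sign_swap (Ne.symm ha), sign_swap (Ne.symm hb)]
      rfl)⟩

/-- For `2^k + 1` points, `k ≥ 2`, `P ⊓ Alt` is transitive away from the fixed point. -/
theorem transitive_off_point {k : ℕ} (hk : 2 ≤ k) (hn : Fintype.card α = 2 ^ k + 1)
    (hz : IsPairing z) (P : Sylow 2 (Perm α))
    (hP : (P : Subgroup (Perm α)) ≤ Subgroup.centralizer {z}) {p : α} (hp : z p = p)
    (hPp : ∀ g ∈ (P : Subgroup (Perm α)), g p = p) (x y : α) (hx : x ≠ p) (hy : y ≠ p) :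
    ∃ g ∈ (P : Subgroup (Perm α)) ⊓ alternatingGroup α, g p = p ∧ g x = y := by
  classical
  have h4 : 4 ≤ 2 ^ k := (by norm_num : 2 ^ 2 = 4) ▸ Nat.pow_le_pow_right two_pos hk
  let O : Finset α := Finset.univ.filter fun w => ∃ g ∈ (P : Subgroup (Perm α)), g x = w
  have hxO : x ∈ O := Finset.mem_filter.2 ⟨Finset.mem_univ _, 1, one_mem _, rfl⟩
  have hzO : z x ∈ O := Finset.mem_filter.2 ⟨Finset.mem_univ _, z, pairing_mem z hz P hP, rfl⟩
  have hzx : z x ≠ x := fun e => hx (hz.2 _ _ e hp)
  have hO : (P : Subgroup (Perm α)) ≤ MulAction.stabilizer (Perm α) O := by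
    intro g hg
    rw [mem_stabilizer_finset]
    intro w
    simp only [O, Finset.mem_filter, Finset.mem_univ, true_and]
    constructor
    · rintro ⟨h, hh, e⟩
      exact ⟨g⁻¹ * h, mul_mem (inv_mem hg) hh, by
        rw [Perm.mul_apply, e, Perm.coe_inv, Equiv.symm_apply_apply]⟩
    · rintro ⟨h, hh, rfl⟩
      exact ⟨g * h, mul_mem hg hh, rfl⟩
  have hsub : O ⊆ Finset.univ.erase p := by
    intro w hw
    obtain ⟨-, g, hg, rfl⟩ := Finset.mem_filter.1 hw
    exact Finset.mem_erase.2 ⟨fun e => hx (g.injective (e.trans (hPp g hg).symm)), Finset.mem_univ _⟩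
  have hOall : O = Finset.univ.erase p := by
    refine Finset.eq_of_subset_of_card_le hsub ?_
    rw [Finset.card_erase_of_mem (Finset.mem_univ p), Finset.card_univ, hn, Nat.add_sub_cancel]
    by_contra hlt
    push Not at hlt
    have h2 : 1 < O.card := Finset.one_lt_card.2 ⟨x, hxO, z x, hzO, Ne.symm hzx⟩
    have hodd := odd_choose_of_invariant P O hO
    rw [hn] at hodd
    obtain ⟨r, hr⟩ : ∃ r, O.card = r + 1 := ⟨O.card - 1, by omega⟩
    rw [hr, Nat.choose_succ_succ] at hodd
    have e1 := even_choose_pow (k := k) (r := r) (by omega) (by omega)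
    have e2 := even_choose_pow (k := k) (r := r + 1) (by omega) (by omega)
    exact Nat.not_even_iff_odd.2 hodd (e1.add e2)
  have hyO : y ∈ O := hOall ▸ Finset.mem_erase.2 ⟨hy, Finset.mem_univ _⟩
  obtain ⟨-, g, hg, rfl⟩ := Finset.mem_filter.1 hyO
  by_cases hs : sign g = 1
  · exact ⟨g, ⟨hg, mem_alternatingGroup.2 hs⟩, hPp g hg, rfl⟩
  · -- correct the sign by a cycle of `z` away from `g x`
    obtain ⟨a, ha1, ha⟩ : ∃ a, a ∉ ({g x, z (g x)} : Finset α) ∧ z a ≠ a := by
      by_contra hcon
      push Not at hcon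
      have hle : (Finset.univ \ {g x, z (g x)} : Finset α).card ≤ 1 :=
        Finset.card_le_one.2 fun a ha b hb => hz.2 a b
          (hcon a (Finset.mem_sdiff.1 ha).2) (hcon b (Finset.mem_sdiff.1 hb).2)
      rw [Finset.card_sdiff, Finset.inter_univ, Finset.card_univ] at hle
      have := Finset.card_le_two (a := g x) (b := z (g x))
      omega
    simp only [Finset.mem_insert, Finset.mem_singleton, not_or] at ha1
    refine ⟨swap a (z a) * g,
      ⟨mul_mem (base_le hz.1 P hP (swap_mem_base hz.1 a)) hg, mem_alternatingGroup.2 ?_⟩, ?_, ?_⟩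
    · rw [Perm.sign_mul, sign_swap (Ne.symm ha), (Int.units_eq_one_or _).resolve_left hs]
      rfl
    · have h1 : p ≠ a := fun e => ha (e ▸ hp)
      have h2 : p ≠ z a := fun e => h1 (by rw [← hz.1 a, ← e, hp])
      rw [Perm.mul_apply, hPp g hg, swap_apply_of_ne_of_ne h1 h2]
    · rw [Perm.mul_apply, swap_apply_of_ne_of_ne (Ne.symm ha1.1)]
      intro e
      exact ha1.2 (by rw [e, hz.1])

/-- On `2^k + 1` points, a subgroup containing `P ⊓ Alt` and moving its fixed point contains the
alternating group. -/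
theorem alternating_le_of_moves {k : ℕ} (hk : 2 ≤ k) (hn : Fintype.card α = 2 ^ k + 1)
    (hz : IsPairing z) (P : Sylow 2 (Perm α))
    (hP : (P : Subgroup (Perm α)) ≤ Subgroup.centralizer {z}) {p : α} (hp : z p = p)
    (M : Subgroup (Perm α)) (hM : (P : Subgroup (Perm α)) ⊓ alternatingGroup α ≤ M)
    {g₀ : Perm α} (hg₀ : g₀ ∈ M) (hmove : g₀ p ≠ p) : alternatingGroup α ≤ M := by
  classical
  have h4 : 4 ≤ 2 ^ k := (by norm_num : 2 ^ 2 = 4) ▸ Nat.pow_le_pow_right two_pos hk
  have hPp : ∀ g ∈ (P : Subgroup (Perm α)), g p = p := fun g hg => by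
    refine hz.2 _ _ ?_ hp
    rw [← Perm.mul_apply, ← Subgroup.mem_centralizer_singleton_iff.1 (hP hg), Perm.mul_apply, hp]
  have htr := transitive_off_point hk hn hz P hP hp hPp
  have hzne : ∀ x, x ≠ p → z x ≠ x := fun x hx e => hx (hz.2 _ _ e hp)
  -- the even part still moves `p`
  set M' := M ⊓ alternatingGroup α with hM'
  have hSM' : (P : Subgroup (Perm α)) ⊓ alternatingGroup α ≤ M' := le_inf hM inf_le_right
  obtain ⟨g, hgM, hgp⟩ : ∃ g ∈ M', g p ≠ p := by
    by_contra hcon
    push Not at hcon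
    have hconj : ∀ s ∈ (P : Subgroup (Perm α)) ⊓ alternatingGroup α, s (g₀ p) = g₀ p := by
      intro s hs
      have hmem : g₀⁻¹ * s * g₀ ∈ M' :=
        ⟨M.mul_mem (M.mul_mem (M.inv_mem hg₀) (hM hs)) hg₀, mem_alternatingGroup.2 (by
          simp [mem_alternatingGroup.1 hs.2])⟩
      have h := congrArg g₀ (hcon _ hmem)
      simpa [Perm.mul_apply] using h
    obtain ⟨b, hb1, hb⟩ : ∃ b, b ∉ ({g₀ p, z (g₀ p)} : Finset α) ∧ b ≠ p := by
      have hlt : (({g₀ p, z (g₀ p), p} : Finset α)).card < Fintype.card α :=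
        lt_of_le_of_lt Finset.card_le_three (by omega)
      obtain ⟨b, hb⟩ := exists_notMem ({g₀ p, z (g₀ p), p} : Finset α) hlt
      simp only [Finset.mem_insert, Finset.mem_singleton, not_or] at hb
      exact ⟨b, by simp [hb.1, hb.2.1], hb.2.2⟩
    simp only [Finset.mem_insert, Finset.mem_singleton, not_or] at hb1
    have h := hconj _ (double_mem hz P hP (hzne _ hmove) (hzne b hb))
    have h2 : g₀ p ≠ z b := fun e => hb1.2 (by rw [e, hz.1])
    rw [Perm.mul_apply, swap_apply_of_ne_of_ne (Ne.symm hb1.1) h2, swap_apply_left] at h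
    exact hzne _ hmove h
  refine le_trans ?_ (inf_le_left : M' ≤ M)
  have hmove' : ∀ x, ∃ h ∈ M', h p = x := by
    intro x
    rcases eq_or_ne x p with rfl | hx
    · exact ⟨1, one_mem _, rfl⟩
    · obtain ⟨h, hh, -, e⟩ := htr _ _ hgp hx
      exact ⟨h * g, mul_mem (hSM' hh) hgM, e⟩
  have htr' : ∀ x y, x ≠ p → y ≠ p → ∃ h ∈ M', h p = p ∧ h x = y := fun x y hx hy => by
    obtain ⟨h, hh, e⟩ := htr x y hx hy
    exact ⟨h, hSM' hh, e⟩
  rcases Nat.lt_or_ge k 3 with hk3 | hk3
  · -- five points: `20` divides the order of `M'`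
    obtain rfl : k = 2 := by omega
    let e : Perm α ≃* Perm (Fin 5) := (Fintype.equivFinOfCardEq (by rw [hn]; rfl)).permCongrHom
    have hA : Nat.card (alternatingGroup α) = 60 := by
      have : Nontrivial α := Fintype.one_lt_card_iff_nontrivial.1 (by omega)
      rw [nat_card_alternatingGroup, Nat.card_eq_fintype_card, hn]
      decide
    have h5 : 5 ∣ Nat.card M' := by
      have horb : MulAction.orbit M' p = Set.univ := Set.eq_univ_of_forall fun x => by
        obtain ⟨h, hh, rfl⟩ := hmove' x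
        exact ⟨⟨h, hh⟩, rfl⟩
      have h1 := Subgroup.index_dvd_card (MulAction.stabilizer M' p)
      rw [MulAction.index_stabilizer, horb, Set.ncard_univ, Nat.card_eq_fintype_card, hn] at h1
      simpa using h1
    have h4' : 4 ∣ Nat.card M' := by
      obtain ⟨a, ha⟩ : ∃ a : α, a ≠ p := ⟨g p, hgp⟩
      obtain ⟨s, hs, -, -⟩ := htr a a ha ha
      have hsub : Nat.card ↥((P : Subgroup (Perm α)) ⊓ alternatingGroup α) ∣ Nat.card M' :=
        Subgroup.card_dvd_of_le hSM'
      have hcardP : Nat.card (P : Subgroup (Perm α)) = 8 := by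
        rw [P.card_eq_multiplicity, Nat.card_eq_fintype_card, Fintype.card_perm, hn,
          show Nat.factorial (2 ^ 2 + 1) = 2 ^ 3 * 15 from rfl,
          Nat.factorization_mul (by norm_num) (by norm_num), Finsupp.add_apply,
          Nat.Prime.factorization_pow Nat.prime_two, Finsupp.single_eq_same,
          Nat.factorization_eq_zero_of_not_dvd (p := 2) (by norm_num : ¬ 2 ∣ 15)]
        norm_num
      have h8 : Nat.card (P : Subgroup (Perm α)) ≤
          2 * Nat.card ↥((P : Subgroup (Perm α)) ⊓ alternatingGroup α) := by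
        have h2 : (alternatingGroup α).relIndex (P : Subgroup (Perm α)) ≤ 2 := by
          have : Nontrivial α := Fintype.one_lt_card_iff_nontrivial.1 (by omega)
          have := Subgroup.relIndex_dvd_index_of_normal (H := alternatingGroup α)
            (K := (P : Subgroup (Perm α)))
          rw [alternatingGroup.index_eq_two] at this
          exact Nat.le_of_dvd two_pos this
        rw [← ((alternatingGroup α).subgroupOf (P : Subgroup (Perm α))).card_mul_index]
        rw [show Nat.card ((alternatingGroup α).subgroupOf (P : Subgroup (Perm α))) =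
            Nat.card ↥((P : Subgroup (Perm α)) ⊓ alternatingGroup α) by
          rw [inf_comm, card_subgroupOf_eq], mul_comm 2]
        exact Nat.mul_le_mul_left _ h2
      have hd := Subgroup.card_dvd_of_le
        (inf_le_left : (P : Subgroup (Perm α)) ⊓ alternatingGroup α ≤ P)
      rw [hcardP] at h8 hd
      obtain ⟨j, hj, hj2⟩ := (Nat.dvd_prime_pow Nat.prime_two).1 (show _ ∣ 2 ^ 3 from hd)
      refine dvd_trans ?_ hsub
      rw [hj2] at h8 ⊢
      interval_cases j <;> first | (exfalso; omega) | decide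
    have h20 : 20 ∣ Nat.card M' := Nat.Coprime.mul_dvd_of_dvd_of_dvd (by norm_num) h4' h5
    have hd60 : Nat.card M' ∣ 60 := hA ▸ Subgroup.card_dvd_of_le inf_le_right
    have hsimp : IsSimpleGroup (alternatingGroup α) := by
      exact alternatingGroup.isSimpleGroup (by rw [Nat.card_eq_fintype_card, hn]; norm_num)
    by_contra hcon
    have hne : Nat.card M' ≠ 60 := fun h => hcon
      (Subgroup.eq_of_le_of_card_ge inf_le_right (by rw [hA, h])).ge
    have hM20 : Nat.card M' = 20 := by
      obtain ⟨a, ha⟩ := h20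
      rw [ha] at hd60 hne
      have : a ∣ 3 := Nat.dvd_of_mul_dvd_mul_left (k := 20) (by norm_num) hd60
      rcases (Nat.dvd_prime Nat.prime_three).1 this with rfl | rfl
      · exact ha
      · exact absurd rfl hne
    set H := M'.subgroupOf (alternatingGroup α)
    have hidx : H.index = 3 := by
      have h := H.card_mul_index
      rw [card_subgroupOf_eq, inf_eq_left.2 inf_le_right, hM20, hA] at h
      omega
    rcases hsimp.eq_bot_or_eq_top_of_normal H.normalCore H.normalCore_normal with h | h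
    · have hd : H.normalCore.index ∣ H.index.factorial := by
        rw [Subgroup.normalCore_eq_ker, Subgroup.index_ker, Subgroup.index, ← Nat.card_perm]
        exact Subgroup.card_subgroup_dvd_card _
      rw [h, Subgroup.index_bot, hA, hidx] at hd
      norm_num [Nat.factorial] at hd
    · have := top_le_iff.1 (h ▸ H.normalCore_le)
      rw [this, Subgroup.index_top] at hidx
      omega
  · -- at least nine points: build a 3-cycle
    have h8 : 8 ≤ 2 ^ k := (by norm_num : 2 ^ 3 = 8) ▸ Nat.pow_le_pow_right two_pos hk3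
    have hz' : ∀ x, z (z x) = x := hz.1
    set w := g * z * g⁻¹ with hw
    have hww : ∀ x, w (w x) = x := fun x => by simp [hw, Perm.mul_apply, hz']
    have hwne : ∀ x, x ≠ g p → w x ≠ x := by
      intro x hx e
      apply hx
      have : z (g⁻¹ x) = g⁻¹ x := g.injective (by
        simpa [hw, Perm.mul_apply] using e)
      have := hz.2 _ _ this hp
      rw [← this, Perm.coe_inv, Equiv.apply_symm_apply]
    have hwdouble : ∀ a b, a ≠ g p → b ≠ g p → swap a (w a) * swap b (w b) ∈ M' := by
      intro a b ha hb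
      have hm := double_mem hz P hP (a := g⁻¹ a) (b := g⁻¹ b)
        (fun e => ha (by
          have := hz.2 _ _ e hp
          rw [← this, Perm.coe_inv, Equiv.apply_symm_apply]))
        (fun e => hb (by
          have := hz.2 _ _ e hp
          rw [← this, Perm.coe_inv, Equiv.apply_symm_apply]))
      have := mul_mem (mul_mem hgM (hSM' hm)) (inv_mem hgM)
      convert this using 1
      have hs : ∀ a b, g * swap a b * g⁻¹ = swap (g a) (g b) := fun a b => by
        rw [mul_inv_eq_iff_eq_mul, Equiv.mul_swap_eq_swap_mul]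
      rw [show ∀ s t : Perm α, g * (s * t) * g⁻¹ = (g * s * g⁻¹) * (g * t * g⁻¹) from
        fun s t => by group, hs, hs]
      simp [hw, Perm.mul_apply]
    set c := w p with hc
    have hcp : c ≠ p := hwne p (Ne.symm hgp)
    have hd := hzne c hcp
    obtain ⟨e, he1, he⟩ : ∃ e, e ∉ ({p, c, z c, w (z c)} : Finset α) ∧ e ≠ g p := by
      have hlt : (insert (g p) ({p, c, z c, w (z c)} : Finset α)).card < Fintype.card α :=
        lt_of_le_of_lt ((Finset.card_insert_le _ _).trans (Nat.succ_le_succ Finset.card_le_four))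
          (by omega)
      obtain ⟨e, he⟩ := exists_notMem (insert (g p) ({p, c, z c, w (z c)} : Finset α)) hlt
      simp only [Finset.mem_insert, not_or] at he
      exact ⟨e, by simp only [Finset.mem_insert, not_or]; exact he.2, he.1⟩
    obtain ⟨u, hu⟩ : ∃ u, u ∉ ({p, c, z c, e, w e, z e, z (w e)} : Finset α) := by
      have hlt : ({p, c, z c, e, w e, z e, z (w e)} : Finset α).card < Fintype.card α := by
        refine lt_of_le_of_lt (le_trans ((Finset.card_insert_le _ _).trans (Nat.succ_le_succ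
          ((Finset.card_insert_le _ _).trans (Nat.succ_le_succ ((Finset.card_insert_le _ _).trans
          (Nat.succ_le_succ Finset.card_le_four)))))) le_rfl) (by omega)
      obtain ⟨u, hu⟩ := exists_notMem ({p, c, z c, e, w e, z e, z (w e)} : Finset α) hlt
      exact ⟨u, hu⟩
    simp only [Finset.mem_insert, Finset.mem_singleton, not_or] at he1 hu
    obtain ⟨he1, he2, he3, he4⟩ := he1
    obtain ⟨hu1, hu2, hu3, hu4, hu5, hu6, hu7⟩ := hu
    have hev := hwne e he
    have huz := hzne u hu1
    have hx := hSM' (double_mem hz P hP hd huz)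
    have hy := hwdouble p e (Ne.symm hgp) he
    rw [← hc] at hy
    have hmem := mul_mem (mul_mem hx hy) (mul_mem hx hy)
    have hs1 : swap c (z c) = swap c (z c) := rfl
    rw [sq_overlap (a := p) (b := c) (c := z c) (Ne.symm hcp)
      (fun h => hcp (by rw [← hz' c, ← h, hp]))
      (Ne.symm hd) (Ne.symm huz) (Ne.symm hev) ?_ ?_ ?_ ?_] at hmem
    · exact alternating_le_of_threeCycle hmove' htr'
        (cyc3_isThreeCycle (Ne.symm hcp) (fun h => hcp (by rw [← hz' c, ← h, hp])) (Ne.symm hd)) hmem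
    · refine ⟨Ne.symm hu1, fun h => hu1 ?_, Ne.symm he1, fun h => he2 ?_⟩
      · rw [← hz' u, ← h, hp]
      · rw [hc, h, hww]
    · refine ⟨Ne.symm hu2, fun h => hu3 ?_, Ne.symm he2, fun h => he1 ?_⟩
      · rw [h, hz']
      · rw [← hww e, ← h, hc, hww]
    · refine ⟨Ne.symm hu3, fun h => hu2 ?_, Ne.symm he3, fun h => he4 ?_⟩
      · exact (z.injective h).symm
      · rw [h, hww]
    · refine ⟨hu4, hu5, fun h => hu6 ?_, fun h => hu7 ?_⟩
      · rw [← h, hz']
      · rw [← h, hz']

end Odd

end CfsgLib.AltSylow
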