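import Cfsg.Agent.AltSylow.Overgroups

/-!
# Two overgroups of a Sylow 2-subgroup generating the alternating group
-/

set_option autoImplicit false

namespace CfsgLib.AltSylow

open Equiv Equiv.Perm
open scoped Pointwise

variable {α : Type*} [Fintype α] [DecidableEq α]

/-- The stabilizer of a proper nonempty subset with a spare point misses a 3-cycle. -/
theorem not_alternating_le_stabilizer (h3 : 3 ≤ Fintype.card α) {A : Finset α} {u v : α}
    (hu : u ∈ A) (hv : v ∉ A) :
    ¬ alternatingGroup α ≤ MulAction.stabilizer (Perm α) A := by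
  intro h
  obtain ⟨w, hw⟩ := exists_notMem ({u, v} : Finset α)
    (lt_of_le_of_lt Finset.card_le_two (by omega))
  simp only [Finset.mem_insert, Finset.mem_singleton, not_or] at hw
  have huv : u ≠ v := fun e => hv (e ▸ hu)
  have h1 := mem_stabilizer_finset.1 (h (cyc3_mem_alternating huv (Ne.symm hw.2) (c := w))) u
  have h2 : cyc3 u v w u = v := by
    simp only [cyc3, Perm.mul_apply, swap_apply_def]
    grind
  rw [h2] at h1
  exact hv (h1.2 hu)

/-- The centralizer of a pairing on at least six points misses a 3-cycle. -/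
theorem not_alternating_le_centralizer {z : Perm α} (hz : IsPairing z)
    (h : 5 ≤ Fintype.card α) : ¬ alternatingGroup α ≤ Subgroup.centralizer {z} := by
  intro hle
  obtain ⟨x, hx⟩ : ∃ x, z x ≠ x := by
    by_contra hcon
    push Not at hcon
    have : Fintype.card α ≤ 1 :=
      Fintype.card_le_one_iff.2 fun a b => hz.2 a b (hcon a) (hcon b)
    omega
  obtain ⟨y, hy⟩ := exists_notMem ({x, z x} : Finset α)
    (lt_of_le_of_lt Finset.card_le_two (by omega))
  simp only [Finset.mem_insert, Finset.mem_singleton, not_or] at hy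
  have h1 := congrArg (fun k : Perm α => k x) (Subgroup.mem_centralizer_singleton_iff.1
    (hle (cyc3_mem_alternating (Ne.symm hx) (Ne.symm hy.2) (c := y))))
  simp only [cyc3, Perm.mul_apply, swap_apply_def] at h1
  have h2 : z (z x) = x := hz.1 x
  have h3 : z y = x → y = z x := fun e => by rw [← e, hz.1]
  grind

section Even

variable {z : Perm α}

/-- Swapping two 2-cycles of a pairing gives an even element of its centralizer. -/
theorem swapPairs_mem (hz : IsPairing z) {u x : α} (hu : z u ≠ u) (hx : z x ≠ x) :
    swap u x * swap (z u) (z x) ∈ alternatingGroup α ∧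
      (x ≠ z u → swap u x * swap (z u) (z x) ∈ Subgroup.centralizer {z}) := by
  refine ⟨?_, fun hne => ?_⟩
  · rw [mem_alternatingGroup, Perm.sign_mul]
    rcases eq_or_ne u x with rfl | h
    · rw [Equiv.swap_self, Equiv.swap_self]
      simp
    · rw [sign_swap h, sign_swap (fun e => h (z.injective e))]
      rfl
  · rw [Subgroup.mem_centralizer_singleton_iff]
    ext a
    have i1 := hz.1 u
    have i2 := hz.1 x
    have i3 := hz.1 a
    simp only [Perm.mul_apply, swap_apply_def]
    grind

/-- Two non-fixed points in different 2-cycles can be moved to any two such points by an even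
element of the centralizer, on at least seven points. -/
theorem exists_move (h7 : 7 ≤ Fintype.card α) (hz : IsPairing z) {u v x y : α} (hu : z u ≠ u)
    (hv : z v ≠ v) (hx : z x ≠ x) (hy : z y ≠ y) (huv : v ≠ u ∧ v ≠ z u)
    (hxy : y ≠ x ∧ y ≠ z x) :
    ∃ c, c ∈ Subgroup.centralizer {z} ⊓ alternatingGroup α ∧ c u = x ∧ c v = y := by
  have i1 := hz.1 u
  have i2 := hz.1 x
  -- first move `u` to `x`
  obtain ⟨c₁, hc₁, hc₁u⟩ : ∃ c, c ∈ Subgroup.centralizer {z} ⊓ alternatingGroup α ∧ c u = x := by
    rcases eq_or_ne x (z u) with rfl | hne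
    · obtain ⟨w, hw⟩ := exists_notMem ({u, z u} : Finset α)
        (lt_of_le_of_lt Finset.card_le_two (by omega))
      simp only [Finset.mem_insert, Finset.mem_singleton, not_or] at hw
      obtain ⟨w', hw', hw'z⟩ : ∃ w', (w' ≠ u ∧ w' ≠ z u) ∧ z w' ≠ w' := ⟨v, huv, hv⟩
      refine ⟨swap u (z u) * swap w' (z w'), Subgroup.mem_inf.2 ⟨?_, ?_⟩, ?_⟩
      · rw [Subgroup.mem_centralizer_singleton_iff]
        exact (Commute.mul_left ((mem_base_iff hz.1).1 (swap_mem_base hz.1 u)).1
          ((mem_base_iff hz.1).1 (swap_mem_base hz.1 w')).1)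
      · rw [mem_alternatingGroup, Perm.sign_mul, sign_swap (Ne.symm hu),
          sign_swap (Ne.symm hw'z)]
        rfl
      · have i3 := hz.1 w'
        simp only [Perm.mul_apply, swap_apply_def]
        grind
    · refine ⟨swap u x * swap (z u) (z x), ⟨(swapPairs_mem hz hu hx).2 hne,
        (swapPairs_mem hz hu hx).1⟩, ?_⟩
      simp only [Perm.mul_apply, swap_apply_def]
      grind
  have hcomm : ∀ a, c₁ (z a) = z (c₁ a) := fun a =>
    congrArg (fun k : Perm α => k a) (Subgroup.mem_centralizer_singleton_iff.1 hc₁.1)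
  set v' := c₁ v with hv'
  have hv'z : z v' ≠ v' := fun e => hv (c₁.injective (by rw [hcomm]; exact e))
  have hv'1 : v' ≠ x := fun e => huv.1 (c₁.injective (by rw [hc₁u]; exact e))
  have hv'2 : v' ≠ z x := fun e => huv.2 (c₁.injective (by rw [hcomm, hc₁u]; exact e))
  have i4 := hz.1 v'
  have i5 := hz.1 y
  -- then move `v'` to `y` fixing `x`
  obtain ⟨c₂, hc₂, hc₂x, hc₂v⟩ : ∃ c, c ∈ Subgroup.centralizer {z} ⊓ alternatingGroup α ∧
      c x = x ∧ c v' = y := by
    rcases eq_or_ne y (z v') with rfl | hne
    · obtain ⟨w, hw, hwz⟩ : ∃ w, (w ≠ x ∧ w ≠ z x ∧ w ≠ v' ∧ w ≠ z v') ∧ z w ≠ w := by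
        by_contra hcon
        push Not at hcon
        have hle : (Finset.univ \ {x, z x, v', z v'} : Finset α).card ≤ 1 :=
          Finset.card_le_one.2 fun a ha b hb => hz.2 a b
            (hcon a (by simpa using (Finset.mem_sdiff.1 ha).2))
            (hcon b (by simpa using (Finset.mem_sdiff.1 hb).2))
        rw [Finset.card_sdiff, Finset.inter_univ, Finset.card_univ] at hle
        have := Finset.card_le_four (a := x) (b := z x) (c := v') (d := z v')
        omega
      refine ⟨swap v' (z v') * swap w (z w), Subgroup.mem_inf.2 ⟨?_, ?_⟩, ?_, ?_⟩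
      · rw [Subgroup.mem_centralizer_singleton_iff]
        exact (Commute.mul_left ((mem_base_iff hz.1).1 (swap_mem_base hz.1 v')).1
          ((mem_base_iff hz.1).1 (swap_mem_base hz.1 w)).1)
      · rw [mem_alternatingGroup, Perm.sign_mul, sign_swap (Ne.symm hv'z),
          sign_swap (Ne.symm hwz)]
        rfl
      · have i3 := hz.1 w
        simp only [Perm.mul_apply, swap_apply_def]
        grind
      · have i3 := hz.1 w
        simp only [Perm.mul_apply, swap_apply_def]
        grind
    · refine ⟨swap v' y * swap (z v') (z y), ⟨(swapPairs_mem hz hv'z hy).2 hne,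
        (swapPairs_mem hz hv'z hy).1⟩, ?_, ?_⟩
      · simp only [Perm.mul_apply, swap_apply_def]
        grind
      · simp only [Perm.mul_apply, swap_apply_def]
        grind
  exact ⟨c₂ * c₁, mul_mem hc₂ hc₁, by rw [Perm.mul_apply, hc₁u, hc₂x],
    by rw [Perm.mul_apply, ← hv', hc₂v]⟩

/-- The even part of the centralizer of a fixed-point-free pairing and one 3-cycle through a
2-cycle generate the alternating group. -/
theorem alternating_le_of_centralizer (h7 : 7 ≤ Fintype.card α) (hz : IsPairing z)
    (hfree : ∀ x, z x ≠ x) (N : Subgroup (Perm α))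
    (hN : Subgroup.centralizer {z} ⊓ alternatingGroup α ≤ N) {u v : α}
    (hv1 : v ≠ u) (hv2 : v ≠ z u) (ht : cyc3 u (z u) v ∈ N) : alternatingGroup α ≤ N := by
  have hin : ∀ x y, y ≠ x → y ≠ z x → cyc3 x (z x) y ∈ N := by
    intro x y h1 h2
    obtain ⟨c, hc, hcu, hcv⟩ := exists_move h7 hz (hfree u) (hfree v) (hfree x) (hfree y)
      ⟨hv1, hv2⟩ ⟨h1, h2⟩
    have h := mul_mem (mul_mem (hN hc) ht) (inv_mem (hN hc))
    have hcz : c (z u) = z x := by
      rw [← hcu]
      exact congrArg (fun k : Perm α => k u) (Subgroup.mem_centralizer_singleton_iff.1 hc.1)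
    rwa [conj_cyc3, hcu, hcz, hcv] at h
  have hall : ∀ a b c, a ≠ b → a ≠ c → b ≠ c → cyc3 a b c ∈ N := by
    intro a b c hab hac hbc
    have key : ∀ a b c : α, b ≠ a → b ≠ z a → c ≠ a → c ≠ z a → b ≠ c →
        cyc3 a b c ∈ N := by
      intro a b c h1 h2 h3 h4 h5
      have e : (cyc3 a (z a) c) * (cyc3 a (z a) b)⁻¹ = cyc3 a b c := by
        rw [mul_inv_eq_iff_eq_mul]
        have := hfree a
        ext w
        simp only [cyc3, Perm.mul_apply, swap_apply_def]
        grind
      rw [← e]
      exact mul_mem (hin a c h3 h4) (inv_mem (hin a b h1 h2))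
    have rot : ∀ a b c : α, a ≠ b → a ≠ c → b ≠ c → cyc3 a b c = cyc3 b c a := by
      intro a b c h1 h2 h3
      ext w
      simp only [cyc3, Perm.mul_apply, swap_apply_def]
      grind
    by_cases h1 : b = z a
    · subst h1
      exact hin a c (Ne.symm hac) (Ne.symm hbc)
    by_cases h2 : c = z a
    · subst h2
      rw [rot a b _ hab hac hbc, rot b _ a hbc (Ne.symm hab) (Ne.symm hac)]
      have := hin (z a) b hbc (by rw [hz.1]; exact Ne.symm hab)
      rwa [hz.1] at this
    exact key a b c (Ne.symm hab) h1 (Ne.symm hac) h2 hbc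
  rw [← closure_three_cycles_eq_alternating, Subgroup.closure_le]
  intro g hg
  obtain ⟨a, b, c, hab, hac, hbc, rfl⟩ : ∃ a b c, a ≠ b ∧ a ≠ c ∧ b ≠ c ∧ g = cyc3 a b c := by
    have hg' : IsThreeCycle g := hg
    obtain ⟨a, ha⟩ := Finset.card_pos.1 (by rw [hg'.card_support]; norm_num : 0 < g.support.card)
    have h1 : g a ≠ a := mem_support.1 ha
    have h3 : orderOf g = 3 := hg'.orderOf
    have hga : g (g (g a)) = a := by
      have := congrArg (fun k : Perm α => k a) (h3 ▸ pow_orderOf_eq_one g : g ^ 3 = 1)
      simpa [pow_three, Perm.mul_apply] using this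
    have h2 : g (g a) ≠ a := fun e => h1 (by rw [e] at hga; exact hga)
    have h4 : g a ≠ g (g a) := fun e => h1 (g.injective e).symm
    refine ⟨a, g a, g (g a), Ne.symm h1, Ne.symm h2, h4, ?_⟩
    have hsub : g.support = {a, g a, g (g a)} := by
      refine (Finset.eq_of_subset_of_card_le ?_ ?_).symm
      · intro w hw
        simp only [Finset.mem_insert, Finset.mem_singleton] at hw
        rcases hw with rfl | rfl | rfl
        · exact ha
        · exact apply_mem_support.2 ha
        · exact apply_mem_support.2 (apply_mem_support.2 ha)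
      · rw [hg'.card_support, Finset.card_insert_of_notMem (by simp [Ne.symm h1, Ne.symm h2]),
          Finset.card_pair h4]
    ext w
    by_cases hw : w ∈ g.support
    · rw [hsub] at hw
      simp only [Finset.mem_insert, Finset.mem_singleton] at hw
      simp only [cyc3, Perm.mul_apply, swap_apply_def]
      grind
    · have hw' := hw
      rw [hsub] at hw'
      simp only [Finset.mem_insert, Finset.mem_singleton, not_or] at hw'
      rw [notMem_support.1 hw]
      simp only [cyc3, Perm.mul_apply, swap_apply_def]
      grind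
  exact hall a b c hab hac hbc

end Even

/-- A 2-group with a transitive action on at least two points has an invariant half. -/
theorem exists_half (P : Subgroup (Perm α)) (hP : IsPGroup 2 P) (h2 : 2 ≤ Fintype.card α)
    (htr : ∀ x y, ∃ g ∈ P, g x = y) :
    ∃ A : Finset α, 2 * A.card = Fintype.card α ∧
      ∀ g ∈ P, (∀ x, g x ∈ A ↔ x ∈ A) ∨ (∀ x, g x ∈ A ↔ x ∉ A) := by
  classical
  have : Nontrivial α := Fintype.one_lt_card_iff_nontrivial.1 h2
  obtain ⟨a, b, hab⟩ := exists_pair_ne α
  set St := MulAction.stabilizer ↥P a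
  have hne : St ≠ ⊤ := by
    intro e
    obtain ⟨g, hg, hgb⟩ := htr a b
    have : (⟨g, hg⟩ : ↥P) ∈ St := e ▸ Subgroup.mem_top _
    exact hab ((MulAction.mem_stabilizer_iff.1 this).symm.trans hgb)
  obtain ⟨H, hH, hle⟩ := (eq_top_or_exists_le_coatom St).resolve_left hne
  have hnil : Group.IsNilpotent ↥P := hP.isNilpotent
  have hnorm : H.Normal :=
    Subgroup.NormalizerCondition.normal_of_coatom H Group.normalizerCondition_of_isNilpotent hH
  -- the quotient is a 2-group without proper nontrivial subgroups
  have hidx : H.index = 2 := by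
    have hQ : IsPGroup 2 (↥P ⧸ H) := hP.to_quotient H
    have : Nontrivial (↥P ⧸ H) := QuotientGroup.nontrivial_iff.2 hH.1
    have hsimple : ∀ K : Subgroup (↥P ⧸ H), K ≠ ⊥ → K = ⊤ := by
      intro K hK
      have hKle : H ≤ K.comap (QuotientGroup.mk' H) := fun x hx => by
        rw [Subgroup.mem_comap, QuotientGroup.mk'_apply, (QuotientGroup.eq_one_iff x).2 hx]
        exact one_mem _
      rcases lt_or_eq_of_le hKle with hlt | heq
      · have := hH.2 _ hlt
        rw [← Subgroup.map_comap_eq_self_of_surjective (QuotientGroup.mk'_surjective H) K, this,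
          Subgroup.map_top_of_surjective _ (QuotientGroup.mk'_surjective H)]
      · exfalso
        apply hK
        rw [← Subgroup.map_comap_eq_self_of_surjective (QuotientGroup.mk'_surjective H) K, ← heq,
          eq_bot_iff]
        rintro _ ⟨x, hx, rfl⟩
        exact (QuotientGroup.eq_one_iff x).2 hx
    obtain ⟨x, hx⟩ := exists_prime_orderOf_dvd_card' 2
      ((hQ.card_eq_or_dvd).resolve_left (Finite.one_lt_card (α := ↥P ⧸ H)).ne')
    have htop := hsimple (Subgroup.zpowers x) (by
      rw [Ne, Subgroup.zpowers_eq_bot]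
      rintro rfl
      simp at hx)
    show Nat.card (↥P ⧸ H) = 2
    rw [← Subgroup.card_top, ← htop, Nat.card_zpowers, hx]
  let A : Finset α := Finset.univ.filter fun x => ∃ g ∈ H, (g : Perm α) a = x
  have key : ∀ g : ↥P, (g : Perm α) a ∈ A ↔ g ∈ H := by
    intro g
    simp only [A, Finset.mem_filter, Finset.mem_univ, true_and]
    refine ⟨?_, fun h => ⟨g, h, rfl⟩⟩
    rintro ⟨k, hk, e⟩
    have : k⁻¹ * g ∈ St := by
      rw [MulAction.mem_stabilizer_iff]
      show ((k : Perm α))⁻¹ ((g : Perm α) a) = a
      rw [← e, Perm.coe_inv, Equiv.symm_apply_apply]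
    have := H.mul_mem hk (hle this)
    rwa [mul_inv_cancel_left] at this
  have hinv : ∀ g : ↥P, (∀ x, (g : Perm α) x ∈ A ↔ x ∈ A) ∨ (∀ x, (g : Perm α) x ∈ A ↔ x ∉ A) := by
    intro g
    by_cases hg : g ∈ H
    · left
      intro x
      obtain ⟨k, hk, rfl⟩ := htr a x
      have := key (g * ⟨k, hk⟩)
      rw [show (((g * ⟨k, hk⟩ : ↥P)) : Perm α) a = (g : Perm α) (k a) from rfl] at this
      rw [this, key ⟨k, hk⟩, H.mul_mem_cancel_left hg]
    · right
      intro x
      obtain ⟨k, hk, rfl⟩ := htr a x
      have := key (g * ⟨k, hk⟩)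
      rw [show (((g * ⟨k, hk⟩ : ↥P)) : Perm α) a = (g : Perm α) (k a) from rfl] at this
      rw [this, key ⟨k, hk⟩, Subgroup.mul_mem_iff_of_index_two hidx]
      tauto
  refine ⟨A, ?_, fun g hg => hinv ⟨g, hg⟩⟩
  obtain ⟨g, hg⟩ : ∃ g : ↥P, g ∉ H := by
    by_contra hcon
    push Not at hcon
    exact hH.1 (eq_top_iff.2 fun x _ => hcon x)
  have hflip := (hinv g).resolve_left fun h => hg ((key g).1 ((h a).2 ((key 1).2 (one_mem H))))
  have hcompl : A.map (g : Perm α).toEmbedding = Aᶜ := by
    ext y
    rw [Finset.mem_map_equiv, Finset.mem_compl]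
    have := hflip (((g : Perm α)).symm y)
    rw [Equiv.apply_symm_apply] at this
    tauto
  have h3 := congrArg Finset.card hcompl
  rw [Finset.card_map, Finset.card_compl] at h3
  have := Finset.card_le_univ A
  omega

/-- The stabilizer of an unordered partition into two halves. -/
def halvesStab (A : Finset α) : Subgroup (Perm α) where
  carrier := {g | (∀ x, g x ∈ A ↔ x ∈ A) ∨ (∀ x, g x ∈ A ↔ x ∉ A)}
  one_mem' := Or.inl fun x => Iff.rfl
  mul_mem' {g h} hg hh := by
    rcases hg with hg | hg <;> rcases hh with hh | hh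
    · exact Or.inl fun x => by rw [Perm.mul_apply, hg, hh]
    · exact Or.inr fun x => by rw [Perm.mul_apply, hg, hh]
    · exact Or.inr fun x => by rw [Perm.mul_apply, hg, hh]
    · exact Or.inl fun x => by rw [Perm.mul_apply, hg, hh, not_not]
  inv_mem' {g} hg := by
    rcases hg with hg | hg
    · exact Or.inl fun x => by
        have := hg (g⁻¹ x)
        rw [Perm.coe_inv, Equiv.apply_symm_apply] at this
        rw [Perm.coe_inv]
        exact this.symm
    · exact Or.inr fun x => by
        have := hg (g⁻¹ x)
        rw [Perm.coe_inv, Equiv.apply_symm_apply] at this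
        rw [Perm.coe_inv]
        tauto

/-- Outside degrees six and `2^k + 1`, every Sylow 2-subgroup lies in two proper subgroups
whose even parts generate the alternating group. -/
theorem exists_two_overgroups {n : ℕ} (hn : Fintype.card α = n) (h5 : 5 ≤ n) (h6 : n ≠ 6)
    (hnot : ¬ ∃ k, 2 ≤ k ∧ n = 2 ^ k + 1) (P : Sylow 2 (Perm α)) :
    ∃ M₁ M₂ : Subgroup (Perm α), (P : Subgroup (Perm α)) ≤ M₁ ∧ (P : Subgroup (Perm α)) ≤ M₂ ∧
      ¬ alternatingGroup α ≤ M₁ ∧ ¬ alternatingGroup α ≤ M₂ ∧
      alternatingGroup α ≤ (M₁ ⊓ alternatingGroup α) ⊔ (M₂ ⊓ alternatingGroup α) := by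
  classical
  obtain ⟨z, hz, hP⟩ := exists_pairing (P : Subgroup (Perm α)) P.isPGroup'
  have hzP : z ∈ (P : Subgroup (Perm α)) := pairing_mem z hz P hP
  -- the top binary digit
  set i := Nat.log 2 n
  have hi1 : 2 ^ i ≤ n := Nat.pow_log_le_self 2 (by omega)
  have hi2 : n < 2 ^ (i + 1) := Nat.lt_pow_succ_log_self Nat.one_lt_two n
  have hi3 : 2 ≤ i := Nat.le_log_of_pow_le Nat.one_lt_two (by omega)
  have hA4 : 4 ≤ 2 ^ i := (by norm_num : 2 ^ 2 = 4) ▸ Nat.pow_le_pow_right two_pos hi3
  obtain ⟨b, hb⟩ : ∃ b, n = 2 ^ i + b := ⟨n - 2 ^ i, by omega⟩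
  have hblt : b < 2 ^ i := by rw [pow_succ] at hi2; omega
  obtain ⟨A, hA, hPA⟩ := exists_invariant P (a := 2 ^ i) (by
    rw [hn, hb]
    exact odd_choose_top_bit hblt)
  have hzA : ∀ x, z x ∈ A ↔ x ∈ A := mem_stabilizer_finset.1 (hPA hzP)
  have hpair : ∀ N : Subgroup (Perm α), ∀ a b c, a ≠ b → b ≠ c → a ∈ A → b ∈ A → c ∈ A →
      MulAction.stabilizer (Perm α) A ⊓ alternatingGroup α ≤ N → cyc3 a b c ∈ N :=
    fun N a b c h1 h2 ha hb hc hN => hN ⟨cyc3_mem_stabilizer ha hb hc, cyc3_mem_alternating h1 h2⟩
  rcases Nat.even_or_odd n with hev | hod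
  · -- even degree: pairs, and either a stabilizer of a set or of two halves
    have hfree : ∀ x, z x ≠ x := by
      intro x hx
      -- otherwise `univ.erase x` would be a set of odd size with a free involution
      have h2 : orderOf z ∣ 2 := orderOf_dvd_iff_pow_eq_one.2 (Perm.ext fun y => by
        simp [pow_two, Perm.mul_apply, hz.1])
      have hsupp : z.support = Finset.univ.erase x := by
        ext y
        rw [mem_support, Finset.mem_erase]
        exact ⟨fun h => ⟨fun e => h (e ▸ hx), Finset.mem_univ _⟩,
          fun h e => h.1 (hz.2 _ _ e hx)⟩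
      have hev' : 2 ∣ z.support.card := by
        rw [← sum_cycleType]
        refine Multiset.dvd_sum fun a ha => ?_
        have h3 := (dvd_of_mem_cycleType ha).trans h2
        have h4 := two_le_of_mem_cycleType ha
        exact (le_antisymm (Nat.le_of_dvd two_pos h3) h4) ▸ dvd_rfl
      rw [hsupp, Finset.card_erase_of_mem (Finset.mem_univ x), Finset.card_univ, hn] at hev'
      obtain ⟨r, hr⟩ := hev
      omega
    obtain ⟨j, hj⟩ := hev
    obtain ⟨u, hu⟩ : A.Nonempty := Finset.card_pos.1 (by omega)
    obtain ⟨v, hv, hv'⟩ : ∃ v ∈ A, v ∉ ({u, z u} : Finset α) :=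
      Finset.exists_mem_notMem_of_card_lt_card (lt_of_le_of_lt Finset.card_le_two (by omega))
    simp only [Finset.mem_insert, Finset.mem_singleton, not_or] at hv'
    by_cases hb0 : b = 0
    · -- a power of two: two halves
      have htr : ∀ x y, ∃ g ∈ (P : Subgroup (Perm α)), g x = y := by
        intro x y
        let O : Finset α := Finset.univ.filter fun w => ∃ g ∈ (P : Subgroup (Perm α)), g x = w
        suffices hO : O = Finset.univ by
          exact (Finset.mem_filter.1 (hO ▸ Finset.mem_univ y : y ∈ O)).2
        have hOinv : (P : Subgroup (Perm α)) ≤ MulAction.stabilizer (Perm α) O := by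
          intro g hg
          rw [mem_stabilizer_finset]
          intro w
          simp only [O, Finset.mem_filter, Finset.mem_univ, true_and]
          constructor
          · rintro ⟨h, hh, e⟩
            exact ⟨g⁻¹ * h, mul_mem (inv_mem hg) hh, by
              rw [Perm.mul_apply, e, Perm.coe_inv, Equiv.symm_apply_apply]⟩
          · rintro ⟨h, hh, rfl⟩
            exact ⟨g * h, mul_mem hg hh, rfl⟩
        have hodd := odd_choose_of_invariant P O hOinv
        have hpos : 0 < O.card :=
          Finset.card_pos.2 ⟨x, Finset.mem_filter.2 ⟨Finset.mem_univ _, 1, one_mem _, rfl⟩⟩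
        rcases lt_or_eq_of_le (Finset.card_le_univ O) with hlt | heq
        · rw [hn, hb, hb0, add_zero] at hodd hlt
          exact absurd (even_choose_pow hpos hlt) (Nat.not_even_iff_odd.2 hodd)
        · exact Finset.card_eq_iff_eq_univ O |>.1 heq
      obtain ⟨H, hHcard, hH⟩ :=
        exists_half (P : Subgroup (Perm α)) P.isPGroup' (by omega) htr
      have hH4 : 4 ≤ H.card := by
        have : 8 ≤ n := by
          rcases Nat.lt_or_ge i 3 with h | h
          · interval_cases i
            omega
          · rw [hb, hb0, add_zero]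
            exact (by norm_num : 2 ^ 3 = 8) ▸ Nat.pow_le_pow_right two_pos h
        omega
      have h7 : 7 ≤ Fintype.card α := by omega
      refine ⟨Subgroup.centralizer {z}, halvesStab H, hP, fun g hg => hH g hg,
        not_alternating_le_centralizer hz (by omega), ?_, ?_⟩
      · obtain ⟨a, ha⟩ : H.Nonempty := Finset.card_pos.1 (by omega)
        obtain ⟨c, hc⟩ := exists_notMem H (by omega)
        obtain ⟨d, hd, hda⟩ : ∃ d ∈ H, d ∉ ({a} : Finset α) :=
          Finset.exists_mem_notMem_of_card_lt_card (by rw [Finset.card_singleton]; omega)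
        obtain ⟨d', hd', hda'⟩ : ∃ d' ∈ H, d' ∉ ({a, d} : Finset α) :=
          Finset.exists_mem_notMem_of_card_lt_card (lt_of_le_of_lt Finset.card_le_two (by omega))
        simp only [Finset.mem_singleton] at hda
        simp only [Finset.mem_insert, Finset.mem_singleton, not_or] at hda'
        intro hle
        have hac : a ≠ c := fun e => hc (e ▸ ha)
        have hcd : c ≠ d := fun e => hc (e ▸ hd)
        have hcd' : c ≠ d' := fun e => hc (e ▸ hd')
        have e1 : cyc3 a c d a = c := by
          simp only [cyc3, Perm.mul_apply, swap_apply_def]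
          grind
        have e2 : cyc3 a c d d' = d' := by
          simp only [cyc3, Perm.mul_apply, swap_apply_def]
          grind
        rcases hle (cyc3_mem_alternating hac hcd (c := d)) with h | h
        · have h' := h a
          rw [e1] at h'
          exact hc (h'.2 ha)
        · have h' := h d'
          rw [e2] at h'
          exact h'.1 hd' hd'
      · set N := (Subgroup.centralizer {z} ⊓ alternatingGroup α) ⊔ (halvesStab H ⊓ alternatingGroup α)
        -- a pair inside one half, or conjugate into one
        have hzH := hH z hzP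
        obtain ⟨a, ha⟩ : H.Nonempty := Finset.card_pos.1 (by omega)
        by_cases hza : z a ∈ H
        · obtain ⟨c, hc, hc'⟩ : ∃ c ∈ H, c ∉ ({a, z a} : Finset α) :=
            Finset.exists_mem_notMem_of_card_lt_card (lt_of_le_of_lt Finset.card_le_two (by omega))
          simp only [Finset.mem_insert, Finset.mem_singleton, not_or] at hc'
          refine alternating_le_of_centralizer h7 hz hfree _ le_sup_left hc'.1 hc'.2
            (le_sup_right (a := Subgroup.centralizer {z} ⊓ alternatingGroup α)
              ⟨Or.inl (mem_stabilizer_finset.1 (cyc3_mem_stabilizer ha hza hc)),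
                cyc3_mem_alternating (Ne.symm (hfree a)) (Ne.symm hc'.2)⟩)
        · -- every cycle of `z` meets both halves
          have hswap : ∀ x, z x ∈ H ↔ x ∉ H := hzH.resolve_left fun h => hza ((h a).2 ha)
          obtain ⟨c, hc, hc'⟩ : ∃ c ∈ H, c ∉ ({a} : Finset α) :=
            Finset.exists_mem_notMem_of_card_lt_card (by rw [Finset.card_singleton]; omega)
          obtain ⟨d, hd, hd'⟩ : ∃ d ∈ H, d ∉ ({a, c} : Finset α) :=
            Finset.exists_mem_notMem_of_card_lt_card (lt_of_le_of_lt Finset.card_le_two (by omega))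
          simp only [Finset.mem_singleton] at hc'
          simp only [Finset.mem_insert, Finset.mem_singleton, not_or] at hd'
          have hN : ∀ g, g ∈ halvesStab H → g ∈ alternatingGroup α → g ∈ N := fun g h1 h2 =>
            le_sup_right (a := Subgroup.centralizer {z} ⊓ alternatingGroup α) ⟨h1, h2⟩
          have ht : cyc3 a c d ∈ N :=
            hN _ (Or.inl (mem_stabilizer_finset.1 (cyc3_mem_stabilizer ha hc hd)))
              (cyc3_mem_alternating (Ne.symm hc') (Ne.symm hd'.2))
          -- replace `c` by `z c`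
          have hcz : z c ≠ c := hfree c
          have haz : swap a (z a) * swap c (z c) ∈ N :=
            le_sup_left (a := Subgroup.centralizer {z} ⊓ alternatingGroup α) <| Subgroup.mem_inf.2 ⟨by
              rw [Subgroup.mem_centralizer_singleton_iff]
              exact (Commute.mul_left ((mem_base_iff hz.1).1 (swap_mem_base hz.1 a)).1
                ((mem_base_iff hz.1).1 (swap_mem_base hz.1 c)).1),
              mem_alternatingGroup.2 (by
                rw [Perm.sign_mul, sign_swap (Ne.symm (hfree a)), sign_swap (Ne.symm hcz)]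
                rfl)⟩
          have ht2 := mul_mem (mul_mem haz ht) (inv_mem haz)
          have hac : z c ≠ a := fun e => ((hswap c).1 (e ▸ ha)) hc
          have had : z a ≠ d := fun e => ((hswap a).1 (e ▸ hd)) ha
          have hcd : z c ≠ d := fun e => ((hswap c).1 (e ▸ hd)) hc
          have hza' : z a ≠ c := fun e => ((hswap a).1 (e ▸ hc)) ha
          have hzac : z a ≠ z c := fun e => hc' (z.injective e).symm
          rw [conj_cyc3] at ht2
          have e1 : (swap a (z a) * swap c (z c)) a = z a := by
            simp only [Perm.mul_apply, swap_apply_def]; grind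
          have e2 : (swap a (z a) * swap c (z c)) c = z c := by
            simp only [Perm.mul_apply, swap_apply_def]; grind
          have e3 : (swap a (z a) * swap c (z c)) d = d := by
            simp only [Perm.mul_apply, swap_apply_def]; grind
          rw [e1, e2, e3] at ht2
          -- `(za zc d)` conjugated by `(a c d)` gives `(za zc a)`
          have ht3 := mul_mem (mul_mem ht ht2) (inv_mem ht)
          rw [conj_cyc3] at ht3
          have f1 : cyc3 a c d (z a) = z a := by
            simp only [cyc3, Perm.mul_apply, swap_apply_def]; grind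
          have f2 : cyc3 a c d (z c) = z c := by
            simp only [cyc3, Perm.mul_apply, swap_apply_def]; grind
          have f3 : cyc3 a c d d = a := by
            simp only [cyc3, Perm.mul_apply, swap_apply_def]; grind
          rw [f1, f2, f3] at ht3
          have e : cyc3 (z a) (z c) a = cyc3 a (z a) (z c) := by
            ext w
            have := hfree a
            simp only [cyc3, Perm.mul_apply, swap_apply_def]
            grind
          rw [e] at ht3
          exact alternating_le_of_centralizer h7 hz hfree N le_sup_left hac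
            (Ne.symm hzac) ht3
    · -- a set of size `2^i` and its complement
      have h7 : 7 ≤ Fintype.card α := by
        rw [hn]
        omega
      refine ⟨Subgroup.centralizer {z}, MulAction.stabilizer (Perm α) A, hP, hPA,
        not_alternating_le_centralizer hz (by omega), ?_, ?_⟩
      · obtain ⟨c, hc⟩ := exists_notMem A (by omega)
        exact not_alternating_le_stabilizer (by omega) hu hc
      · exact alternating_le_of_centralizer h7 hz hfree _ le_sup_left hv'.1 hv'.2
          (hpair _ u (z u) v (Ne.symm (hfree u)) (Ne.symm hv'.2) hu ((hzA u).2 hu) hv le_sup_right)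
  · -- odd degree: the fixed point, and a set of size `2^i`
    obtain ⟨j, hj⟩ := hod
    have hbodd : b % 2 = 1 := by
      have : 2 ∣ 2 ^ i := dvd_pow_self 2 (by omega)
      omega
    have hb3 : 3 ≤ b := by
      by_contra hlt
      have : b = 1 := by omega
      exact hnot ⟨i, hi3, by omega⟩
    obtain ⟨p, hp⟩ : ∃ p, z p = p := by
      by_contra hcon
      push Not at hcon
      have h2 : orderOf z ∣ 2 := orderOf_dvd_iff_pow_eq_one.2 (Perm.ext fun y => by
        simp [pow_two, Perm.mul_apply, hz.1])
      have hev' : 2 ∣ z.support.card := by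
        rw [← sum_cycleType]
        refine Multiset.dvd_sum fun a ha => ?_
        exact (le_antisymm (Nat.le_of_dvd two_pos ((dvd_of_mem_cycleType ha).trans h2))
          (two_le_of_mem_cycleType ha)) ▸ dvd_rfl
      rw [Finset.eq_univ_iff_forall.2 fun x => mem_support.2 (hcon x), Finset.card_univ, hn] at hev'
      omega
    have hPp : ∀ g ∈ (P : Subgroup (Perm α)), g p = p := fun g hg => by
      refine hz.2 _ _ ?_ hp
      rw [← Perm.mul_apply, ← Subgroup.mem_centralizer_singleton_iff.1 (hP hg), Perm.mul_apply, hp]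
    -- the fixed point is outside `A`
    have hpA : p ∉ A := by
      intro hpA
      have hinv : (A.erase p).card % 2 = 0 := by
        have h2 : orderOf z ∣ 2 := orderOf_dvd_iff_pow_eq_one.2 (Perm.ext fun y => by
          simp [pow_two, Perm.mul_apply, hz.1])
        have := Finset.sum_involution (s := A.erase p) (f := fun _ => (1 : ZMod 2))
          (fun x _ => z x) (fun _ _ => by decide)
          (fun x hx _ => fun e => (Finset.mem_erase.1 hx).1 (hz.2 _ _ e hp))
          (fun x hx => Finset.mem_erase.2 ⟨fun e => (Finset.mem_erase.1 hx).1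
            (by rw [← hz.1 x, e, hp]), (hzA x).2 (Finset.mem_erase.1 hx).2⟩)
          (fun x _ => hz.1 x)
        simp only [Finset.sum_const, nsmul_eq_mul, mul_one] at this
        exact Nat.mod_eq_zero_of_dvd ((ZMod.natCast_eq_zero_iff _ _).1 this)
      rw [Finset.card_erase_of_mem hpA, hA] at hinv
      have : 2 ∣ 2 ^ i := dvd_pow_self 2 (by omega)
      omega
    have hPstab : (P : Subgroup (Perm α)) ≤ MulAction.stabilizer (Perm α) ({p} : Finset α) := by
      intro g hg
      rw [MulAction.mem_stabilizer_iff, Finset.smul_finset_singleton, Perm.smul_def, hPp g hg]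
    obtain ⟨u, hu⟩ : A.Nonempty := Finset.card_pos.1 (by omega)
    refine ⟨MulAction.stabilizer (Perm α) A, MulAction.stabilizer (Perm α) ({p} : Finset α), hPA,
      hPstab, not_alternating_le_stabilizer (by omega) hu hpA,
      not_alternating_le_stabilizer (by omega) (Finset.mem_singleton_self p)
        (v := u) (by simp only [Finset.mem_singleton]; exact fun e => hpA (e ▸ hu)), ?_⟩
    set N := (MulAction.stabilizer (Perm α) A ⊓ alternatingGroup α) ⊔
      (MulAction.stabilizer (Perm α) ({p} : Finset α) ⊓ alternatingGroup α)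
    have hfix : ∀ g, g p = p → g ∈ alternatingGroup α → g ∈ N := fun g h1 h2 =>
      le_sup_right (a := MulAction.stabilizer (Perm α) A ⊓ alternatingGroup α)
        (Subgroup.mem_inf.2 ⟨by rw [MulAction.mem_stabilizer_iff, Finset.smul_finset_singleton,
          Perm.smul_def, h1], h2⟩)
    have htr : ∀ x y, x ≠ p → y ≠ p → ∃ g ∈ N, g p = p ∧ g x = y := by
      intro x y hx hy
      rcases eq_or_ne x y with rfl | hxy
      · exact ⟨1, one_mem _, rfl, rfl⟩
      obtain ⟨w, hw⟩ := exists_notMem ({x, y, p} : Finset α)
        (lt_of_le_of_lt Finset.card_le_three (by omega))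
      simp only [Finset.mem_insert, Finset.mem_singleton, not_or] at hw
      have e1 : cyc3 x y w p = p := by
        simp only [cyc3, Perm.mul_apply, swap_apply_def]; grind
      refine ⟨cyc3 x y w, hfix _ e1 (cyc3_mem_alternating hxy (Ne.symm hw.2.1)), e1, ?_⟩
      simp only [cyc3, Perm.mul_apply, swap_apply_def]; grind
    -- move `p` inside the complement of `A`
    obtain ⟨q, hq, hq'⟩ : ∃ q ∈ Aᶜ, q ∉ ({p} : Finset α) :=
      Finset.exists_mem_notMem_of_card_lt_card (by
        rw [Finset.card_singleton, Finset.card_compl]; omega)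
    obtain ⟨r, hr, hr'⟩ : ∃ r ∈ Aᶜ, r ∉ ({p, q} : Finset α) :=
      Finset.exists_mem_notMem_of_card_lt_card (by
        rw [Finset.card_compl]; exact lt_of_le_of_lt Finset.card_le_two (by omega))
    simp only [Finset.mem_singleton] at hq'
    simp only [Finset.mem_insert, Finset.mem_singleton, not_or] at hr'
    rw [Finset.mem_compl] at hq hr
    have hmem : cyc3 p q r ∈ MulAction.stabilizer (Perm α) A := by
      rw [mem_stabilizer_finset]
      intro w
      have hs : ∀ a b : α, a ∉ A → b ∉ A → ∀ w, swap a b w ∈ A ↔ w ∈ A := by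
        intro a b ha hb w
        rcases eq_or_ne w a with rfl | h1
        · rw [swap_apply_left]; exact iff_of_false hb ha
        rcases eq_or_ne w b with rfl | h2
        · rw [swap_apply_right]; exact iff_of_false ha hb
        · rw [swap_apply_of_ne_of_ne h1 h2]
      rw [cyc3, Perm.mul_apply, hs p q hpA hq, hs q r hq hr]
    have ht : cyc3 p q r ∈ N :=
      (le_sup_left : MulAction.stabilizer (Perm α) A ⊓ alternatingGroup α ≤ N)
        (Subgroup.mem_inf.2 ⟨hmem, cyc3_mem_alternating (Ne.symm hq') (Ne.symm hr'.2)⟩)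
    have hcyc : IsThreeCycle (cyc3 p q r) :=
      cyc3_isThreeCycle (Ne.symm hq') (Ne.symm hr'.1) (Ne.symm hr'.2)
    refine alternating_le_of_threeCycle (p := p) ?_ htr hcyc ht
    intro x
    rcases eq_or_ne x p with rfl | hx
    · exact ⟨1, one_mem _, rfl⟩
    · have e : cyc3 p q r p = q := by
        simp only [cyc3, Perm.mul_apply, swap_apply_def]; grind
      obtain ⟨g, hg, -, hgx⟩ := htr q x hq' hx
      exact ⟨g * cyc3 p q r, mul_mem hg ht, by rw [Perm.mul_apply, e, hgx]⟩

end CfsgLib.AltSylow
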